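import Groth.Agent.L17.FSheaf.GrLim

/-!
# Coherent modules on formal schemes have no higher cohomology on affine opens
-/

set_option autoImplicit false
set_option linter.style.haveILetI false
set_option linter.unusedSectionVars false
set_option backward.isDefEq.respectTransparency false
set_option backward.isDefEq.respectTransparency.types false

universe u

open CategoryTheory CategoryTheory.Limits AlgebraicGeometry TopologicalSpace Opposite Abelian

noncomputable section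

namespace Groth.L17.IndRpush

open Groth.L17.FSheaf Groth.L17.FSheaf.GrQuot

theorem hu_zero_tower {X : TopCat.{u}} {G : ℕ → AbSheaf X} (t : ∀ k, G (k + 1) ⟶ G k) {W : Opens X}
    (hsurj : ∀ k, Function.Surjective ((t k).hom.app (op W))) (y : ∀ k, HU W (G k) 0) :
    ∃ x : ∀ k, HU W (G k) 0, ∀ k, x k - huMap (t k) (x (k + 1)) = y k := by
  have hl : ∀ k (c : HU W (G k) 0), ∃ d : HU W (G (k + 1)) 0, huMap (t k) d = c := fun k c => by
    obtain ⟨φ, rfl⟩ := (Ext.mk₀_bijective _ _).2 c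
    obtain ⟨s, hs⟩ := hsurj k (zEquiv W _ φ)
    refine ⟨Ext.mk₀ ((zEquiv W _).symm s), (Ext.mk₀_comp_mk₀ _ _).trans (congrArg _ ?_)⟩
    exact (zEquiv W _).injective (by rw [zEquiv_comp, Equiv.apply_symm_apply, hs])
  choose d hd using hl
  let x : ∀ k, HU W (G k) 0 := fun k => Nat.rec (motive := fun k => HU W (G k) 0) 0 (fun k c => d k (c - y k)) k
  refine ⟨x, fun k => ?_⟩
  rw [show huMap (t k) (x (k + 1)) = x k - y k from hd k _]
  exact sub_sub_cancel _ _

variable {𝔛 : FSch.Sys.{u}} (hX : 𝔛.IsLocNoethFormal) {𝔉 : FSch.ModF 𝔛 hX.1}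

/-- Coherent modules are acyclic on affine opens. -/
theorem acyclicOn_coh (h𝔉 : FSch.IsCohF 𝔛 hX.1 𝔉) :
    LimCoh.AcyclicOn (X := (𝔛.X 0).toTopCat) (𝔛.X 0).affineOpens ((TF hX.1).obj 𝔉) := by
  intro W hW n x
  have hG : ∀ k, LimCoh.AcyclicOn (X := (𝔛.X 0).toTopCat) (𝔛.X 0).affineOpens (levG hX 𝔉 k) := fun k =>
    haveI : Coh.IsQCoh (LF 𝔛 hX.1 𝔉 k) := (isCoh_canonSys 𝔛 hX 𝔉 h𝔉 k).1
    acyclicOn_push hX.1 k (LF 𝔛 hX.1 𝔉 k)
  have key := LimCoh.hu_lim (X := (𝔛.X 0).toTopCat) (𝔛.X 0).isBasis_affineOpens (levG hX 𝔉) (levT hX 𝔉)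
    (levπ hX 𝔉) levπ_levT (levπ_ext h𝔉) (exists_levπ h𝔉) (surjective_levT h𝔉) hG W (n + 1)
  refine key.1 (fun m hm y => ?_) x fun k => hG k W hW n _
  cases m with
  | zero => exact hu_zero_tower (levT hX 𝔉) (surjective_levT h𝔉 W hW) y
  | succ j =>
    refine ⟨y, fun k => ?_⟩
    rw [hG (k + 1) W hW j (y (k + 1))]
    exact (congrArg (y k - ·) (LimCoh.huMap_zero _)).trans (sub_zero _)

end Groth.L17.IndRpush
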