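import Groth.Agent.L09.IndCoh.CovExt
import Groth.Agent.L09.IndCoh.IndPres
import Groth.Agent.L09.IndCoh.FinType
import Groth.Prelude.Def_WeakSerre

/-!
# Coherent and ind-coherent modules on formal schemes form weak Serre classes
-/

set_option autoImplicit false
set_option linter.style.haveILetI false
set_option linter.unusedSectionVars false
set_option backward.isDefEq.respectTransparency false
set_option backward.isDefEq.respectTransparency.types false

universe u

open CategoryTheory CategoryTheory.Limits AlgebraicGeometry TopologicalSpace Opposite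

noncomputable section

namespace Groth.L17.IndRpush

open Groth.L17.FSheaf Groth.L09.IndCoh

variable {𝔛 : FSch.Sys.{u}} (hX : 𝔛.IsLocNoethFormal)

/-- The coherent modules. -/
abbrev coh : ObjectProperty (FSch.ModF 𝔛 hX.1) := fun 𝔊 => FSch.IsCohF 𝔛 hX.1 𝔊

/-- The ind-coherent modules. -/
abbrev ind : ObjectProperty (FSch.ModF 𝔛 hX.1) :=
  ObjectProperty.ind.{u} fun 𝔊 : FSch.ModF 𝔛 hX.1 => FSch.IsCohF 𝔛 hX.1 𝔊

theorem shortExact_sections {S : ShortComplex (FSch.ModF 𝔛 hX.1)} (hS : S.ShortExact) (V : (𝔛.X 0).Opens)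
    (b : SF 𝔛 hX.1 S.X₂ V) (hb : apF S.g V b = 0) : ∃ a, apF S.f V a = b := by
  obtain ⟨k, hk⟩ := (exists_kernel_sect S.g (op V)).1 b hb
  let e : kernel S.g ≅ S.X₁ := (kernelIsKernel S.g).conePointUniqueUpToIso hS.fIsKernel
  refine ⟨apF e.hom V k, Eq.trans ?_ hk⟩
  exact apF_congr hX (f := e.hom ≫ S.f) (IsLimit.conePointUniqueUpToIso_hom_comp (kernelIsKernel S.g)
    hS.fIsKernel WalkingParallelPair.zero) V k

/-- Extensions of coherent modules are coherent. -/
theorem isCohF_ext {S : ShortComplex (FSch.ModF 𝔛 hX.1)} (hS : S.ShortExact) (h₁ : FSch.IsCohF 𝔛 hX.1 S.X₁)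
    (h₃ : FSch.IsCohF 𝔛 hX.1 S.X₃) : FSch.IsCohF 𝔛 hX.1 S.X₂ := by
  haveI := hS.mono_f
  haveI := hS.epi_g
  have hex := shortExact_sections hX hS
  have hB : QR S.X₂ := qr_ext hX S.f S.g hex (qr_coh hX h₁) (qr_coh hX h₃)
  refine isCohF_of_qr_finGen hX hB fun x => ?_
  obtain ⟨U, hU, hxU, -⟩ := Opens.isBasis_iff_nbhd.1 (𝔛.X 0).isBasis_affineOpens (Opens.mem_top x)
  obtain ⟨n, g, hg⟩ := exists_gens hX h₁ hU
  obtain ⟨m, t, ht⟩ := exists_gens hX h₃ hU
  choose b hb using fun j => lift_affine hX S.f S.g S.zero hex hB hU (genOn_coh hX h₁ hU) (t j)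
  refine ⟨U, hxU, n + m, Fin.append (fun i => apF S.f U (g i)) b, fun W hW y hy z => ?_⟩
  obtain ⟨V, hV, hyV, hVW⟩ := Opens.isBasis_iff_nbhd.1 (𝔛.X 0).isBasis_affineOpens hy
  obtain ⟨c, hc⟩ := ht hV (hVW.trans hW) (apF S.g V (rsF S.X₂ hVW z))
  obtain ⟨a, ha⟩ := hex V (rsF S.X₂ hVW z - ∑ j, c j • rsF S.X₂ (hVW.trans hW) (b j)) (by
    rw [map_sub, map_sum, hc, sub_eq_zero]
    exact Finset.sum_congr rfl fun j _ => ((map_smul _ _ _).trans
      (congrArg (fun s => c j • s) ((apF_rsF S.g _ (b j)).trans (congrArg (rsF S.X₃ _) (hb j))))).symm)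
  obtain ⟨d, hd⟩ := hg hV (hVW.trans hW) a
  refine ⟨V, hVW, hyV, Fin.append d c, ?_⟩
  rw [Fin.sum_univ_add]
  simp only [Fin.append_left, Fin.append_right]
  refine (sub_eq_iff_eq_add.1 ha.symm).trans (congrArg₂ (· + ·) ?_ rfl)
  rw [hd, map_sum]
  exact Finset.sum_congr rfl fun i _ => (map_smul _ _ _).trans (congrArg (fun s => d i • s) (apF_rsF S.f _ (g i)))

/-- Coherent modules form a weak Serre class. -/
theorem weakSerre_coh : WSerre.IsWeakSerre (coh hX) := by
  have hz : (coh hX).ContainsZero := ⟨⟨_, isZero_zero _, isCohF_zero hX (isZero_zero _)⟩⟩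
  have hk : (coh hX).IsClosedUnderKernels := ⟨by
    rintro _ ⟨f, c, hc, hM, hN⟩
    exact isCohF_of_iso hX (isCohF_kernel 𝔛 hX hM hN f) ((kernelIsKernel f).conePointUniqueUpToIso hc)⟩
  have hc : (coh hX).IsClosedUnderCokernels := ⟨by
    rintro _ ⟨f, c, hc, hM, hN⟩
    exact isCohF_of_iso hX (isCohF_cokernel 𝔛 hX hM hN f) ((cokernelIsCokernel f).coconePointUniqueUpToIso hc)⟩
  have he : (coh hX).IsClosedUnderExtensions := ⟨fun {S} hS h1 h3 => isCohF_ext hX hS h1 h3⟩
  exact { toContainsZero := hz }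

/-- Ind-coherent modules form a weak Serre class. -/
theorem weakSerre_ind [CompactSpace (𝔛.X 0)] : WSerre.IsWeakSerre (ind hX) := by
  have hz : (ind hX).ContainsZero :=
    ⟨⟨_, isZero_zero _, (ind_iff_good hX).2 (good_coh hX (isCohF_zero hX (isZero_zero _)))⟩⟩
  have hk : (ind hX).IsClosedUnderKernels := ⟨by
    rintro _ ⟨f, c, hc, hM, hN⟩
    exact (ind_iff_good hX).2 ((good_kernel hX ((ind_iff_good hX).1 hM) ((ind_iff_good hX).1 hN).1 f).of_iso hX
      ((kernelIsKernel f).conePointUniqueUpToIso hc))⟩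
  have hc : (ind hX).IsClosedUnderCokernels := ⟨by
    rintro _ ⟨f, c, hc, hM, hN⟩
    exact (ind_iff_good hX).2 ((good_cokernel hX ((ind_iff_good hX).1 hM).2 ((ind_iff_good hX).1 hN) f).of_iso hX
      ((cokernelIsCokernel f).coconePointUniqueUpToIso hc))⟩
  have he : (ind hX).IsClosedUnderExtensions := ⟨fun {S} hS h1 h3 =>
    haveI := hS.mono_f
    haveI := hS.epi_g
    (ind_iff_good hX).2 (good_ext hX S.f S.g S.zero (shortExact_sections hX hS) ((ind_iff_good hX).1 h1)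
      ((ind_iff_good hX).1 h3))⟩
  exact { toContainsZero := hz }

theorem ind_coh {M : FSch.ModF 𝔛 hX.1} (hM : FSch.IsCohF 𝔛 hX.1 M) : ind hX M :=
  (ind_iff_good hX).2 (good_coh hX hM)

theorem ind_colim {J : Type u} [SmallCategory J] {F : J ⥤ FSch.ModF 𝔛 hX.1} {c : Cocone F} (hc : IsColimit c)
    (hF : ∀ j, ind hX (F.obj j)) : ind hX c.pt :=
  (ind_iff_good hX).2 (good_colim hX hc fun j => (ind_iff_good hX).1 (hF j))

end Groth.L17.IndRpush
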