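import Groth.Agent.L17.IndRpush.Amp
import Groth.Agent.L17.IndRpush.WeakSerre
import Groth.Agent.L10.RDerCohIn

/-!
# Cohomology conditions under the derived direct image
-/

set_option autoImplicit false
set_option linter.style.haveILetI false
set_option linter.unusedSectionVars false
set_option backward.defeqAttrib.useBackward true
set_option backward.isDefEq.respectTransparency false
set_option backward.isDefEq.respectTransparency.types false

universe u

open CategoryTheory CategoryTheory.Limits AlgebraicGeometry TopologicalSpace Opposite DerivedCategory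

attribute [local instance] HasDerivedCategory.standard

noncomputable section

namespace Groth.L17.IndRpush

variable {𝔛 𝔜 : FSch.Sys.{u}} (hX : 𝔛.IsLocNoethFormal) (h𝔜 : 𝔜.IsFormal) (f : 𝔛 ⟶ 𝔜)

/-- Weak Serre conditions preserved by all higher direct images pass to the derived direct image. -/
theorem prop_H_RpushD [CompactSpace (𝔛.X 0)] [CompactSpace (𝔜.X 0)] [SiteCmp.HasRpushD (fm hX h𝔜 f)]
    [HasInjectiveResolutions (FSch.ModF 𝔛 hX.1)]
    (A : ObjectProperty (FSch.ModF 𝔛 hX.1)) [WSerre.IsWeakSerre A] (hA : ∀ M, A M → ind hX M)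
    (A' : ObjectProperty (FSch.ModF 𝔜 h𝔜)) [WSerre.IsWeakSerre A']
    (h3 : ∀ M, A M → ∀ p : ℕ, A' (((fm hX h𝔜 f).Rpush p).obj M))
    (G : DerivedCategory (FSch.ModF 𝔛 hX.1)) (hG : ∀ i : ℤ, A (SiteCmp.HMod G i)) (i : ℤ) :
    A' (SiteCmp.HMod ((SiteCmp.RpushD (fm hX h𝔜 f)).obj G) i) := by
  have hc := fun (V : (𝔜.X 0).Opens) (_ : IsAffineOpen V) =>
    isCompact_of_compactSpace hX ((f : FSch.Hom 𝔛 𝔜).app 0 ⁻¹ᵁ V)
  obtain ⟨N, hN⟩ := exists_bdd hX h𝔜 f hc
  exact Groth.L10.ModRDer.cohIn_RF (fm hX h𝔜 f)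
    ((SiteCmp.pushKh (fm hX h𝔜 f)).totalRightDerivedUnit DerivedCategory.Qh
      (HomotopyCategory.quasiIso (FSch.ModF 𝔛 hX.1) (ComplexShape.up ℤ)))
    A A' h3 N G hG (fun n j hj => isIso_H_π hX h𝔜 f hc N hN G (fun a => hA _ (hG a)) n j hj) i

end Groth.L17.IndRpush
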