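import Groth.Agent.L17.IndRpush.PushColim
import Groth.Agent.L17.IndRpush.CohIn
import Groth.Agent.L17.FSheaf.RpushCoh

/-!
# Higher direct images of ind-coherent modules under proper morphisms are ind-coherent
-/

set_option autoImplicit false
set_option linter.style.haveILetI false
set_option linter.unusedSectionVars false
set_option backward.defeqAttrib.useBackward true
set_option backward.isDefEq.respectTransparency false
set_option backward.isDefEq.respectTransparency.types false

universe u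

open CategoryTheory CategoryTheory.Limits AlgebraicGeometry TopologicalSpace Opposite DerivedCategory

attribute [local instance] HasDerivedCategory.standard

noncomputable section

namespace Groth.L17.IndRpush

variable {𝔛 𝔜 : FSch.Sys.{u}} (hX : 𝔛.IsLocNoethFormal) (hY : 𝔜.IsLocNoethFormal) (f : 𝔛 ⟶ 𝔜)

theorem ind_rpush [CompactSpace (𝔛.X 0)] [CompactSpace (𝔜.X 0)] (hf : FSch.IsProperHom f)
    [SiteCmp.HasRpushD (fm hX hY.1 f)] [HasInjectiveResolutions (FSch.ModF 𝔛 hX.1)]
    (M : FSch.ModF 𝔛 hX.1) (hM : ind hX M) (p : ℕ) : ind hY (((fm hX hY.1 f).Rpush p).obj M) := by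
  obtain ⟨Λ, _, _, pres, hp⟩ := hM
  have hc := fun (V : (𝔜.X 0).Opens) (_ : IsAffineOpen V) =>
    isCompact_of_compactSpace hX ((f : FSch.Hom 𝔛 𝔜).app 0 ⁻¹ᵁ V)
  obtain ⟨_, -, -⟩ := Groth.L10.ModRDer.insts (𝔛.Osh hX.1)
  haveI : IsGrothendieckAbelian.{u} (FSch.ModF 𝔛 hX.1) := Groth.L10.shMod_isGrothendieckAbelian _
  haveI : IsGrothendieckAbelian.{u} (FSch.ModF 𝔜 hY.1) := Groth.L10.shMod_isGrothendieckAbelian _
  haveI := preservesColimitsOfShape_push hX hY.1 f hc Λ
  haveI : PreservesFiniteLimits (fm hX hY.1 f).push := inferInstance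
  obtain ⟨E, e, ⟨he⟩, ⟨ept⟩, hE⟩ := ColimDer.exists_rightDerived_colimit
    ((SiteCmp.pushKh (fm hX hY.1 f)).totalRightDerivedUnit DerivedCategory.Qh
      (HomotopyCategory.quasiIso (FSch.ModF 𝔛 hX.1) (ComplexShape.up ℤ)))
    (acColim hX hY.1 f hc Λ) pres.diag pres.cocone pres.isColimit p
  refine (Groth.L09.IndCoh.ind_iff_good hY).2 (((Groth.L09.IndCoh.ind_iff_good hY).1 ?_).of_iso hY ept)
  refine ⟨Λ, inferInstance, inferInstance, { diag := E, ι := e.ι, isColimit := he }, fun j => ?_⟩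
  exact Groth.L09.IndCoh.isCohF_of_iso hY
    (Groth.L17.FSheaf.RpushF.isCohF_rpushF hX hY f (pres.diag.obj j) (hp j) hf p) (hE j).some.symm

end Groth.L17.IndRpush
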