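import Groth.Agent.L17.IndRpush.CohAcyclic
import Groth.Agent.L17.MayerVietoris
import Groth.Agent.L09.CohColim.Opens
import Groth.Agent.L15.KFlatSite.ToSheafColim
import Mathlib.AlgebraicGeometry.Morphisms.QuasiSeparated
import Mathlib.CategoryTheory.ObjectProperty.Ind

/-!
# Bounds on the cohomology of ind-coherent modules on formal schemes
-/

set_option autoImplicit false
set_option linter.style.haveILetI false
set_option linter.unusedSectionVars false
set_option backward.isDefEq.respectTransparency false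
set_option backward.isDefEq.respectTransparency.types false

universe u

open CategoryTheory CategoryTheory.Limits AlgebraicGeometry TopologicalSpace Opposite Abelian

noncomputable section

namespace Groth.L17.IndRpush

open Groth.L17.FSheaf Groth.L17.FSheaf.GrQuot
open Groth.L10.SiteCoh (fs freeSheafifyIso)

section Scheme

variable {X : Scheme.{u}}

/-- `W` meets every affine open below `T` in an affine open. -/
def AffOn (T W : X.Opens) : Prop := ∀ A : X.Opens, IsAffineOpen A → A ≤ T → IsAffineOpen (W ⊓ A)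

/-- Preimages of affine opens. -/
theorem affOn_preimage {Y : Scheme.{u}} (f : X ⟶ Y) {V Z : Y.Opens} (hV : IsAffineOpen V) (hZ : IsAffineOpen Z)
    (hZV : Z ≤ V) : AffOn (f ⁻¹ᵁ V) (f ⁻¹ᵁ Z) := fun A hA hAV => by
  haveI : IsAffine A := hA
  haveI : IsAffine V := hV
  have hZ' : IsAffineOpen (V.ι ⁻¹ᵁ Z) :=
    hZ.preimage_of_isOpenImmersion V.ι (by rw [Scheme.Opens.opensRange_ι]; exact hZV)
  have h := (hZ'.preimage (f.resLE V A hAV)).image_of_isOpenImmersion A.ι
  rw [Scheme.Hom.resLE_preimage, Scheme.Hom.image_preimage_eq_opensRange_inf, Scheme.Opens.opensRange_ι,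
    Scheme.Hom.image_preimage_eq_opensRange_inf, Scheme.Opens.opensRange_ι, inf_eq_right.2 hZV] at h
  rwa [inf_comm]

/-- Finite unions of basic opens of an affine open, met with `W`. -/
theorem hu_basicOpens_eq_zero {F : AbSheaf X.toTopCat}
    (hF : LimCoh.AcyclicOn (X := X.toTopCat) X.affineOpens F) {V : X.Opens} (hV : IsAffineOpen V)
    {W : X.Opens} (hW : AffOn V W) :
    ∀ (k : ℕ) (g : Fin k → Γ(X, V)) (n : ℕ), k ≤ n →
      ∀ x : HU (X := X.toTopCat) (W ⊓ ⨆ i, X.basicOpen (g i)) F n, x = 0 := by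
  intro k
  induction k with
  | zero =>
    intro g n _
    rw [show (⨆ i, X.basicOpen (g i)) = ⊥ from iSup_of_empty _, inf_bot_eq]
    exact hu_bot_eq_zero (X := X.toTopCat)
  | succ k ih =>
    intro g n hn
    obtain ⟨m, rfl⟩ : ∃ m, n = m + 1 := ⟨n - 1, by omega⟩
    have key : (⨆ i, X.basicOpen (g i)) =
        (⨆ i : Fin k, X.basicOpen (g i.castSucc)) ⊔ X.basicOpen (g (Fin.last k)) := by
      refine le_antisymm (iSup_le fun i => ?_) (sup_le (iSup_le fun i => ?_) (le_iSup (fun i => X.basicOpen (g i)) _))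
      · induction i using Fin.lastCases with
        | last => exact le_sup_right
        | cast j => exact (le_iSup (fun i : Fin k => X.basicOpen (g i.castSucc)) j).trans le_sup_left
      · exact le_iSup (fun i => X.basicOpen (g i)) _
    rw [key, inf_sup_left]
    refine hu_sup_vanish (X := X.toTopCat) ?_ (ih _ (m + 1) (by omega))
      (hF _ (hW _ (hV.basicOpen _) (X.basicOpen_le _)) m)
    rw [← inf_inf_distrib_left, iSup_inf_eq,
      iSup_congr fun i : Fin k => (X.basicOpen_mul (g i.castSucc) (g (Fin.last k))).symm]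
    exact ih _ m (by omega)

/-- A quasi-compact open inside an affine open. -/
theorem exists_bound_le_affine {V : X.Opens} (hV : IsAffineOpen V) {U : X.Opens} (hU : IsCompact (U : Set X))
    (hUV : U ≤ V) : ∃ d : ℕ, ∀ W : X.Opens, AffOn V W → ∀ F : AbSheaf X.toTopCat,
      LimCoh.AcyclicOn (X := X.toTopCat) X.affineOpens F →
      ∀ n, d ≤ n → ∀ x : HU (X := X.toTopCat) (W ⊓ U) F n, x = 0 := by
  have hcov : (U : Set X) ⊆ ⋃ f : {f : Γ(X, V) // X.basicOpen f ≤ U}, (X.basicOpen f.1 : Set X) := by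
    intro p hp
    obtain ⟨f, hf, hpf⟩ := hV.exists_basicOpen_le ⟨p, hp⟩ (hUV hp)
    exact Set.mem_iUnion.2 ⟨⟨f, hf⟩, hpf⟩
  obtain ⟨t, ht⟩ := hU.elim_finite_subcover
    (fun f : {f : Γ(X, V) // X.basicOpen f ≤ U} => (X.basicOpen f.1 : Set X)) (fun f => (X.basicOpen f.1).isOpen) hcov
  let e := t.equivFin.symm
  have hU' : (⨆ i, X.basicOpen (e i).1.1) = U := by
    refine le_antisymm (iSup_le fun i => (e i).1.2) fun p hp => ?_
    obtain ⟨f, hf, hpf⟩ := Set.mem_iUnion₂.1 (ht hp)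
    exact Opens.mem_iSup.2 ⟨e.symm ⟨f, hf⟩, by simpa using hpf⟩
  exact ⟨t.card, fun W hW F hF n hn => hU' ▸ hu_basicOpens_eq_zero hF hV hW _ (fun i => (e i).1.1) n hn⟩

/-- Sheaves acyclic on affine opens have bounded cohomology, uniformly in the opens meeting affines in affines. -/
theorem exists_bound_acyclic [QuasiSeparatedSpace X] (U : X.Opens) (hU : IsCompact (U : Set X)) :
    ∃ d : ℕ, ∀ W : X.Opens, W ≤ U → AffOn U W → ∀ F : AbSheaf X.toTopCat,
      LimCoh.AcyclicOn (X := X.toTopCat) X.affineOpens F →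
      ∀ n, d ≤ n → ∀ x : HU (X := X.toTopCat) W F n, x = 0 := by
  suffices ∀ T : X.Opens, U ≤ T → ∃ d : ℕ, ∀ W : X.Opens, AffOn T W → ∀ F : AbSheaf X.toTopCat,
      LimCoh.AcyclicOn (X := X.toTopCat) X.affineOpens F →
      ∀ n, d ≤ n → ∀ x : HU (X := X.toTopCat) (W ⊓ U) F n, x = 0 by
    obtain ⟨d, hd⟩ := this U le_rfl
    refine ⟨d, fun W hWU hW F hF n hn => ?_⟩
    have h := hd W hW F hF n hn
    rwa [inf_eq_left.2 hWU] at h
  refine compact_open_induction_on U hU (fun T _ => ⟨0, fun W _ F _ n _ => ?_⟩) ?_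
  · rw [inf_bot_eq]
    exact hu_bot_eq_zero (X := X.toTopCat)
  intro S hS V ih T hT
  obtain ⟨d, hd⟩ := ih T (le_sup_left.trans hT)
  obtain ⟨e, he⟩ := exists_bound_le_affine V.2 (U := S ⊓ V.1)
    (QuasiSeparatedSpace.inter_isCompact _ _ S.2 hS V.1.2 V.2.isCompact) inf_le_right
  refine ⟨d + e + 2, fun W hW F hF n hn => ?_⟩
  obtain ⟨m, rfl⟩ : ∃ m, n = m + 1 := ⟨n - 1, by omega⟩
  rw [inf_sup_left]
  refine hu_sup_vanish (X := X.toTopCat) ?_ (hd W hW F hF (m + 1) (by omega))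
    (hF _ (hW _ V.2 (le_sup_right.trans hT)) m)
  rw [← inf_inf_distrib_left]
  exact he W (fun A hA hAV => hW A hA (hAV.trans (le_sup_right.trans hT))) F hF m (by omega)

/-- Vanishing passes to filtered colimits on quasi-compact quasi-separated opens. -/
theorem hu_colimit_eq_zero {U : X.Opens} (hU : IsCompact (U : Set X)) (hU' : IsQuasiSeparated (U : Set X))
    {Λ : Type u} [SmallCategory Λ] [IsFiltered Λ] {D : Λ ⥤ AbSheaf X.toTopCat} {c : Cocone D} (hc : IsColimit c)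
    (n : ℕ) (h : ∀ (j : Λ) (x : HU (X := X.toTopCat) U (D.obj j) n), x = 0)
    (x : HU (X := X.toTopCat) U c.pt n) : x = 0 := by
  have hcomm : Groth.L09.CohColim.Commutes (fs (Opens.grothendieckTopology X) U) n c :=
    (Groth.L09.CohColim.commutes_HK Groth.L09.CohColim.goodSet_qcqs
      (K := ToposFin.eps (Opens.grothendieckTopology X) U) ⟨U, hU, hU', ⟨Iso.refl _⟩⟩ n D c hc).of_iso
      (freeSheafifyIso (yoneda.obj U))
  obtain ⟨j, η, rfl⟩ := hcomm.1 x
  exact (congrArg _ (h j η)).trans (map_zero _)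

end Scheme

variable {𝔛 : FSch.Sys.{u}} (hX : 𝔛.IsLocNoethFormal)

include hX in
theorem quasiSeparatedSpace_zero : QuasiSeparatedSpace (𝔛.X 0) :=
  haveI : IsLocallyNoetherian (𝔛.X 0) := hX.2.2 0
  inferInstance

/-- Vanishing for coherent modules gives vanishing for ind-coherent modules. -/
theorem hu_ind_eq_zero {U : (𝔛.X 0).Opens} (hU : IsCompact (U : Set (𝔛.X 0))) (n : ℕ)
    (h : ∀ 𝔉 : FSch.ModF 𝔛 hX.1, FSch.IsCohF 𝔛 hX.1 𝔉 →
      ∀ x : HU (X := (𝔛.X 0).toTopCat) U ((TF hX.1).obj 𝔉) n, x = 0)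
    {M : FSch.ModF 𝔛 hX.1} (hM : (ObjectProperty.ind.{u} fun 𝔊 : FSch.ModF 𝔛 hX.1 => FSch.IsCohF 𝔛 hX.1 𝔊) M)
    (x : HU (X := (𝔛.X 0).toTopCat) U ((TF hX.1).obj M) n) : x = 0 := by
  obtain ⟨Λ, _, _, pres, hp⟩ := hM
  haveI := quasiSeparatedSpace_zero hX
  haveI : PreservesColimitsOfSize.{u, u} (TF hX.1) := Groth.L15.KFlatSite.preservesColimits_toSheaf _
  exact hu_colimit_eq_zero (X := 𝔛.X 0) (D := pres.diag ⋙ TF hX.1) hU ((isQuasiSeparated_univ_iff.2 ‹_›).of_subset (Set.subset_univ _))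
    (isColimitOfPreserves (TF hX.1) pres.isColimit) n (fun j => h _ (hp j)) x

/-- Ind-coherent modules are acyclic on affine opens. -/
theorem acyclicOn_ind {M : FSch.ModF 𝔛 hX.1}
    (hM : (ObjectProperty.ind.{u} fun 𝔊 : FSch.ModF 𝔛 hX.1 => FSch.IsCohF 𝔛 hX.1 𝔊) M) :
    LimCoh.AcyclicOn (X := (𝔛.X 0).toTopCat) (𝔛.X 0).affineOpens ((TF hX.1).obj M) := fun W hW m x =>
  hu_ind_eq_zero hX (IsAffineOpen.isCompact hW) (m + 1) (fun 𝔉 h𝔉 => acyclicOn_coh hX h𝔉 W hW m) hM x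

/-- Ind-coherent modules have uniformly bounded cohomology on quasi-compact opens. -/
theorem exists_bound_ind {U : (𝔛.X 0).Opens} (hU : IsCompact (U : Set (𝔛.X 0))) :
    ∃ d : ℕ, ∀ W : (𝔛.X 0).Opens, W ≤ U → AffOn U W → ∀ M : FSch.ModF 𝔛 hX.1,
      (ObjectProperty.ind.{u} fun 𝔊 : FSch.ModF 𝔛 hX.1 => FSch.IsCohF 𝔛 hX.1 𝔊) M →
      ∀ n, d ≤ n → ∀ x : HU (X := (𝔛.X 0).toTopCat) W ((TF hX.1).obj M) n, x = 0 := by
  haveI := quasiSeparatedSpace_zero hX
  obtain ⟨d, hd⟩ := exists_bound_acyclic U hU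
  exact ⟨d, fun W hWU hW M hM => hd W hWU hW _ (acyclicOn_ind hX hM)⟩

end Groth.L17.IndRpush
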