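import Groth.Agent.L17.IndRpush.ColimDer
import Groth.Agent.L10.HomotopyProd
import Mathlib.CategoryTheory.Limits.Constructions.Filtered

/-!
# Derived functors of bounded dimension and coproducts of objects with cohomology in a class

`RF` commutes with filtered colimits of complexes with cohomology in a class closed under colimits on which
truncations are stable, hence with coproducts of such objects.
-/

set_option autoImplicit false
set_option linter.style.haveILetI false
set_option linter.unusedSectionVars false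
set_option backward.defeqAttrib.useBackward true
set_option backward.isDefEq.respectTransparency false
set_option backward.isDefEq.respectTransparency.types false

universe w w' v u u'

open CategoryTheory CategoryTheory.Limits DerivedCategory
open CoproductsFromFiniteFiltered

noncomputable section

namespace Groth.L17.IndRpush.ColimDer

open Groth.L10

local notation "tt" => DerivedCategory.TStructure.t

variable {A : Type u} [Category.{v} A] [Abelian A] [IsGrothendieckAbelian.{v} A] [HasDerivedCategory.{w} A]

/-- coproducts of complexes are coproducts in the derived category -/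
theorem isColimit_Q_cofan {ι : Type v} (C : ι → CochainComplex A ℤ) [HasCoproduct C] :
    Nonempty (IsColimit (Cofan.mk (Q.obj (∐ C)) fun i => Q.map (Sigma.ι C i))) := by
  let q := quotientCompQhIso A
  have hb := fun Y => Groth.L10.DerivedProd.hom_from_coproduct_bijective C Y
  refine ⟨mkCofanColimit _ (fun s => q.inv.app _ ≫ ((hb s.pt).surjective fun i => q.hom.app _ ≫ s.inj i).choose)
    (fun s i => ?_) fun s m hm => ?_⟩
  · simp only [cofan_mk_inj]
    have hn : Q.map (Sigma.ι C i) ≫ q.inv.app (∐ C) =
        q.inv.app (C i) ≫ Qh.map ((HomotopyCategory.quotient A (ComplexShape.up ℤ)).map (Sigma.ι C i)) :=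
      q.inv.naturality (Sigma.ι C i)
    rw [reassoc_of% hn]
    have := congrFun ((hb s.pt).surjective fun i => q.hom.app _ ≫ s.inj i).choose_spec i
    rw [this, Iso.inv_hom_id_app_assoc]
  · rw [← cancel_epi (q.hom.app _), Iso.hom_inv_id_app_assoc]
    refine (hb s.pt).injective (funext fun i => ?_)
    rw [congrFun ((hb s.pt).surjective fun i => q.hom.app _ ≫ s.inj i).choose_spec i, ← hm i, cofan_mk_inj]
    exact (q.hom.naturality_assoc (Sigma.ι C i) m).trans rfl

/-- cohomology commutes with coproducts in the derived category -/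
theorem isColimit_H_cofan {ι : Type v} (K : ι → DerivedCategory A) (c : Cofan K) (hc : IsColimit c) (j : ℤ) :
    Nonempty (IsColimit (Cofan.mk ((homologyFunctor A j).obj c.pt) fun i => (homologyFunctor A j).map (c.inj i))) := by
  let C : ι → CochainComplex A ℤ := fun i => Q.objPreimage (K i)
  haveI := Groth.L29.DC.HomologyColim.preservesColimitsOfShape_homology (A := A) (J := Discrete ι) (ComplexShape.up ℤ) j
  let H := homologyFunctor A j
  obtain ⟨h1⟩ := isColimit_Q_cofan C
  let c' : Cofan K := Cofan.mk (Q.obj (∐ C)) fun i => (Q.objObjPreimageIso (K i)).inv ≫ Q.map (Sigma.ι C i)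
  have hc' : IsColimit c' := (IsColimit.precomposeHomEquiv
    (Discrete.natIso fun i => (Q.objObjPreimageIso (K i.as))) _).1
      (h1.ofIsoColimit (Cocone.ext (Iso.refl _) fun i => by simp [c']))
  let h2 := isColimitOfHasCoproductOfPreservesColimit (HomologicalComplex.homologyFunctor A (ComplexShape.up ℤ) j) C
  let φ := homologyFunctorFactors A j
  have h3 : IsColimit (Cofan.mk (H.obj c'.pt) fun i => H.map (c'.inj i)) :=
    (IsColimit.precomposeHomEquiv (Discrete.natIso fun i =>
      (φ.app (C i.as)).symm ≪≫ H.mapIso (Q.objObjPreimageIso (K i.as))) _).1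
      (h2.ofIsoColimit (Cocone.ext (φ.app (∐ C)).symm fun i => by
        simp only [Cofan.mk_ι_app, Cocone.precompose_obj_ι, NatTrans.comp_app, Discrete.natIso_hom_app,
          Iso.trans_hom, Functor.mapIso_hom, Iso.symm_hom, Iso.app_inv, Category.assoc, c', cofan_mk_inj,
          ← Functor.map_comp, Iso.hom_inv_id_assoc]
        exact φ.inv.naturality (Sigma.ι C i.as)))
  refine ⟨h3.ofIsoColimit (Cocone.ext (H.mapIso (hc'.coconePointUniqueUpToIso hc)) fun i => ?_)⟩
  simp only [Cofan.mk_ι_app, Functor.mapIso_hom, ← Functor.map_comp]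
  exact congrArg H.map (hc'.comp_coconePointUniqueUpToIso_hom hc i)

/-- an additive functor preserving the colimit of finite subsums preserves the coproduct -/
theorem isColimit_cofan_of_finite {A' : Type*} [Category A'] [Preadditive A'] [HasFiniteCoproducts A']
    {B' : Type*} [Category B'] [Preadditive B'] (G : A' ⥤ B') [G.Additive] {ι : Type v} (c : ι → A')
    [HasCoproduct c] (h : IsColimit (G.mapCocone (finiteSubcoproductsCocone c))) :
    Nonempty (IsColimit (Cofan.mk (G.obj (∐ c)) fun i => G.map (Sigma.ι c i))) := by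
  haveI : PreservesFiniteCoproducts G := inferInstance
  let hS : ∀ S : Finset (Discrete ι), IsColimit (Cofan.mk (G.obj (∐ fun x : S => c x.1.as))
      fun x => G.map (Sigma.ι (fun x : S => c x.1.as) x)) := fun S =>
    isColimitOfHasCoproductOfPreservesColimit G (fun x : S => c x.1.as)
  let dS : ∀ (s : Cofan fun i => G.obj (c i)) (S : Finset (Discrete ι)),
      G.obj (∐ fun x : S => c x.1.as) ⟶ s.pt := fun s S =>
    Cofan.IsColimit.desc (hS S) fun x => s.inj x.1.as
  have hd : ∀ (s : Cofan fun i => G.obj (c i)) (S : Finset (Discrete ι)) (x : S),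
      G.map (Sigma.ι (fun x : S => c x.1.as) x) ≫ dS s S = s.inj x.1.as := fun s S x =>
    Cofan.IsColimit.fac (hS S) _ x
  let T : ∀ s : Cofan fun i => G.obj (c i), Cocone (liftToFinsetObj (Discrete.functor c) ⋙ G) := fun s =>
    { pt := s.pt
      ι :=
        { app := dS s
          naturality := fun S S' g => by
            refine Cofan.IsColimit.hom_ext (hS S) _ _ fun x => ?_
            change G.map (Sigma.ι (fun x : S => c x.1.as) x) ≫
              G.map ((liftToFinsetObj (Discrete.functor c)).map g) ≫ dS s S' =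
              G.map (Sigma.ι (fun x : S => c x.1.as) x) ≫ dS s S ≫ 𝟙 _
            rw [← Category.assoc, ← G.map_comp, Category.comp_id, hd]
            simp only [liftToFinsetObj_map, Discrete.functor_obj_eq_as, Sigma.ι_desc]
            exact hd s S' _ } }
  refine ⟨mkCofanColimit _ (fun s => h.desc (T s)) (fun s i => ?_) fun s m hm => ?_⟩
  · simp only [cofan_mk_inj]
    have hf := h.fac (T s) {Discrete.mk i}
    rw [← hd s {Discrete.mk i} ⟨Discrete.mk i, Finset.mem_singleton_self _⟩]
    change _ = _ ≫ (T s).ι.app {Discrete.mk i}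
    rw [← hf, ← Category.assoc, Functor.mapCocone_ι_app, ← G.map_comp]
    simp [finiteSubcoproductsCocone]
  · refine h.hom_ext fun S => ?_
    rw [h.fac]
    refine Cofan.IsColimit.hom_ext (hS S) _ _ fun x => ?_
    change G.map (Sigma.ι (fun x : S => c x.1.as) x) ≫ G.map ((finiteSubcoproductsCocone c).ι.app S) ≫ m =
      G.map (Sigma.ι (fun x : S => c x.1.as) x) ≫ dS s S
    rw [← Category.assoc, ← G.map_comp, hd]
    simp only [finiteSubcoproductsCocone, Sigma.ι_desc]
    exact hm x.1.as

variable [HasInjectiveResolutions A] [EnoughInjectives A]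
  {B : Type u'} [Category.{v} B] [Abelian B] [HasDerivedCategory.{w'} B] {F : A ⥤ B} [F.Additive]
  {RF : DerivedCategory A ⥤ DerivedCategory B}
  (α : F.mapHomotopyCategory (ComplexShape.up ℤ) ⋙ Qh ⟶ Qh ⋙ RF)
  [RF.IsRightDerivedFunctor α (HomotopyCategory.quasiIso A (ComplexShape.up ℤ))]

include α in
theorem additive_RF : RF.Additive := by
  let ι := (KInjDerived.kInj A).ι
  haveI : ∀ P, IsIso ((Functor.whiskerLeft ι α).app P) := fun P =>
    KInjDerived.isIso_app_of_isKInjective α P.obj P.property
  haveI := NatIso.isIso_of_isIso_app (Functor.whiskerLeft ι α)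
  haveI : ((ι ⋙ Qh).asEquivalence).inverse.Additive :=
    haveI : ((ι ⋙ Qh).asEquivalence).functor.Additive := inferInstanceAs (ι ⋙ Qh).Additive
    Equivalence.inverse_additive _
  let E := (ι ⋙ Qh).asEquivalence
  exact Functor.additive_of_iso
    (F := E.inverse ⋙ ι ⋙ F.mapHomotopyCategory (ComplexShape.up ℤ) ⋙ Qh)
    (Functor.isoWhiskerLeft E.inverse (asIso (Functor.whiskerLeft ι α)) ≪≫
      (Functor.associator _ _ _).symm ≪≫ Functor.isoWhiskerRight E.counitIso _ ≪≫ Functor.leftUnitor _)

variable (RF) in
/-- Truncations are stable on objects with cohomology in `P`. -/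
def Stable (P : ObjectProperty A) (N : ℤ) : Prop :=
  ∀ (X : DerivedCategory A), (∀ i, P ((homologyFunctor A i).obj X)) → ∀ (n : ℕ) (j : ℤ), N - (n : ℤ) ≤ j →
    IsIso ((homologyFunctor B j).map (RF.map (((tt).truncGEπ (-(n : ℤ))).app X)))

/-- an isomorphism in degrees `≥ -m` gives one in degrees `≥ N - m` -/
theorem isIso_H_map_of_stable {P : ObjectProperty A} {N : ℤ} (hN : Stable RF P N) {K L : DerivedCategory A}
    (hK : ∀ i, P ((homologyFunctor A i).obj K)) (hL : ∀ i, P ((homologyFunctor A i).obj L)) (φ : K ⟶ L) (m : ℕ)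
    (h : ∀ i : ℤ, -(m : ℤ) ≤ i → IsIso ((homologyFunctor A i).map φ)) (j : ℤ) (hj : N - (m : ℤ) ≤ j) :
    IsIso ((homologyFunctor B j).map (RF.map φ)) := by
  have hK' := hN K hK m j hj
  have hL' := hN L hL m j hj
  haveI : IsIso (((tt).truncGE (-(m : ℤ))).map φ) := by
    rw [DerivedCategory.isIso_iff]
    intro i
    by_cases hi : -(m : ℤ) ≤ i
    · have := h i hi
      have := Groth.L10.isIso_H_π (-(m : ℤ)) i hi K
      have := Groth.L10.isIso_H_π (-(m : ℤ)) i hi L
      refine IsIso.of_isIso_fac_left (f := (homologyFunctor A i).map (((tt).truncGEπ (-(m : ℤ))).app K))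
        (h := (homologyFunctor A i).map φ ≫ (homologyFunctor A i).map (((tt).truncGEπ (-(m : ℤ))).app L)) ?_
      rw [← Functor.map_comp, ← Functor.map_comp]
      exact congrArg _ (((tt).truncGEπ (-(m : ℤ))).naturality φ).symm
    · exact ⟨0, (isZero_H_GE (-(m : ℤ)) i (by omega) K).eq_of_src _ _,
        (isZero_H_GE (-(m : ℤ)) i (by omega) L).eq_of_src _ _⟩
  refine IsIso.of_isIso_fac_right
    (h := (homologyFunctor B j).map (RF.map (((tt).truncGEπ (-(m : ℤ))).app K)) ≫
      (homologyFunctor B j).map (RF.map (((tt).truncGE (-(m : ℤ))).map φ)))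
    (f := (homologyFunctor B j).map (RF.map (((tt).truncGEπ (-(m : ℤ))).app L))) ?_
  simp only [← Functor.map_comp]
  exact congrArg _ (congrArg _ (((tt).truncGEπ (-(m : ℤ))).naturality φ))

variable [PreservesFiniteLimits F] [IsGrothendieckAbelian.{v} B]

/-- `P` is closed under small colimits. -/
def ClosedColim (P : ObjectProperty A) : Prop :=
  ∀ {J : Type v} [SmallCategory J] {D : J ⥤ A} {c : Cocone D}, IsColimit c → (∀ j, P (D.obj j)) → P c.pt

variable {P : ObjectProperty A} [P.IsClosedUnderIsomorphisms] (hP : ClosedColim P) {N : ℤ} (hN : Stable RF P N)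
  {J : Type v} [SmallCategory J] [IsFiltered J] [PreservesColimitsOfShape J F] (hF : AcColim F J)
  (C : J ⥤ CochainComplex A ℤ) (c : Cocone C) (hc : IsColimit c)
  (hC : ∀ j i, P ((homologyFunctor A i).obj (Q.obj (C.obj j))))

include α hP hN hF hc hC in
/-- `RF` commutes with filtered colimits of complexes with cohomology in `P`. -/
theorem isColimit_G0_stable (i : ℤ) : Nonempty (IsColimit ((G0 RF i).mapCocone c)) := by
  haveI := Groth.L29.DC.HomologyColim.preservesColimitsOfShape_homology (A := A) (J := J) (ComplexShape.up ℤ)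
  let m : ℕ := (N - i).toNat
  let e := ComplexShape.embeddingUpIntGE (-(m : ℤ))
  let D := C ⋙ e.truncGEFunctor A
  let ρ : C ⟶ D := Functor.whiskerLeft C (e.πTruncGENatTrans A)
  let θ : c.pt ⟶ colimit D := hc.desc ((Cocone.precompose ρ).obj (colimit.cocone D))
  have hθ : ∀ j, c.ι.app j ≫ θ = ρ.app j ≫ colimit.ι D j := fun j => hc.fac _ j
  have hDge : ∀ j, (Q.obj (D.obj j)).IsGE (-(m : ℤ)) := fun j => by
    haveI : CochainComplex.IsStrictlyGE (D.obj j) (-(m : ℤ)) :=
      inferInstanceAs ((HomologicalComplex.truncGE (C.obj j) e).IsStrictlySupported e)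
    exact (DerivedCategory.isGE_Q_obj_iff _ _).2 inferInstance
  have hρ : ∀ (j : J) (k : ℤ), -(m : ℤ) ≤ k → IsIso (HomologicalComplex.homologyMap (ρ.app j) k) := fun j k hk =>
    (quasiIsoAt_iff_isIso_homologyMap _ _).1 (CochainComplex.quasiIsoAt_πTruncGE (C.obj j) (-(m : ℤ)) k hk)
  have hρ' : ∀ (j : J) (k : ℤ), -(m : ℤ) ≤ k → IsIso ((homologyFunctor A k).map (Q.map (ρ.app j))) := fun j k hk => by
    haveI := hρ j k hk
    exact (NatIso.isIso_map_iff (homologyFunctorFactors A k) (ρ.app j)).2 this
  have hθ' : ∀ k : ℤ, -(m : ℤ) ≤ k → IsIso ((homologyFunctor A k).map (Q.map θ)) := fun k hk => by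
    let H := HomologicalComplex.homologyFunctor A (ComplexShape.up ℤ) k
    haveI : ∀ j, IsIso ((Functor.whiskerRight ρ H).app j) := fun j => hρ j k hk
    haveI := NatIso.isIso_of_isIso_app (Functor.whiskerRight ρ H)
    have he : H.map θ = ((isColimitOfPreserves H hc).coconePointsIsoOfNatIso
        (isColimitOfPreserves H (colimit.isColimit D)) (asIso (Functor.whiskerRight ρ H))).hom :=
      (isColimitOfPreserves H hc).hom_ext fun j => by
        rw [IsColimit.comp_coconePointsIsoOfNatIso_hom]
        simp only [Functor.mapCocone_ι_app, asIso_hom, Functor.whiskerRight_app, ← Functor.map_comp]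
        exact congrArg H.map (hθ j)
    have : IsIso (H.map θ) := by rw [he]; infer_instance
    exact (NatIso.isIso_map_iff (homologyFunctorFactors A k) θ).2 this
  have hP0 : ∀ Z : A, IsZero Z → P Z := fun Z hZ => by
    refine hP (J := Discrete PEmpty.{v + 1}) (c := Cofan.mk (f := fun i : PEmpty.{v + 1} => (i.elim : A)) Z fun i => i.elim)
      (mkCofanColimit _ (fun _ => 0) (fun _ i => i.elim) fun _ _ _ => hZ.eq_of_src _ _) fun j => j.as.elim
  have hq : ∀ {K : CochainComplex A ℤ}, (∀ k, P ((homologyFunctor A k).obj (Q.obj K))) → ∀ k, P (K.homology k) :=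
    fun {K} h k => P.prop_of_iso ((homologyFunctorFactors A k).app K) (h k)
  have hcq : ∀ k, P ((homologyFunctor A k).obj (Q.obj c.pt)) := fun k =>
    P.prop_of_iso ((homologyFunctorFactors A k).app c.pt).symm
      (hP (isColimitOfPreserves (HomologicalComplex.homologyFunctor A (ComplexShape.up ℤ) k) hc)
        fun j => hq (hC j) k)
  have hDq : ∀ j k, P ((homologyFunctor A k).obj (Q.obj (D.obj j))) := fun j k => by
    by_cases hk : -(m : ℤ) ≤ k
    · haveI := hρ' j k hk
      exact P.prop_of_iso (asIso ((homologyFunctor A k).map (Q.map (ρ.app j)))) (hC j k)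
    · haveI := hDge j
      exact hP0 _ (DerivedCategory.isZero_of_isGE _ (-(m : ℤ)) k (by omega))
  have hdq : ∀ k, P ((homologyFunctor A k).obj (Q.obj (colimit D))) := fun k =>
    P.prop_of_iso ((homologyFunctorFactors A k).app _).symm
      (hP (isColimitOfPreserves (HomologicalComplex.homologyFunctor A (ComplexShape.up ℤ) k) (colimit.isColimit D))
        fun j => hq (hDq j) k)
  haveI : ∀ j, IsIso ((Functor.whiskerRight ρ (G0 RF i)).app j) := fun j =>
    isIso_H_map_of_stable hN (hC j) (hDq j) (Q.map (ρ.app j)) m (hρ' j) i (by simp only [m]; omega)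
  haveI := NatIso.isIso_of_isIso_app (Functor.whiskerRight ρ (G0 RF i))
  haveI : IsIso ((G0 RF i).map θ) :=
    isIso_H_map_of_stable hN hcq hdq (Q.map θ) m hθ' i (by simp only [m]; omega)
  obtain ⟨h1⟩ := isColimit_G0 α hF D (colimit.cocone D) (colimit.isColimit D) (-(m : ℤ)) hDge i
  exact ⟨IsColimit.ofIsoColimit ((IsColimit.precomposeHomEquiv (asIso (Functor.whiskerRight ρ (G0 RF i))) _).symm h1)
    (Cocone.ext (asIso ((G0 RF i).map θ)) fun j => by
      change (G0 RF i).map (c.ι.app j) ≫ (G0 RF i).map θ = (G0 RF i).map (ρ.app j) ≫ (G0 RF i).map (colimit.ι D j)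
      rw [← Functor.map_comp, ← Functor.map_comp, hθ]).symm⟩

include α hP hN in
/-- `RF` commutes with coproducts of objects with cohomology in `P`. -/
theorem preservesColimit_discrete {ι : Type v} [PreservesColimitsOfShape (Finset (Discrete ι)) F]
    (hF' : AcColim F (Finset (Discrete ι))) (K : ι → DerivedCategory A)
    (hK : ∀ a i, P ((homologyFunctor A i).obj (K a))) : PreservesColimit (Discrete.functor K) RF := by
  haveI := additive_RF α
  let C : ι → CochainComplex A ℤ := fun i => Q.objPreimage (K i)
  let e := fun i => Q.objObjPreimageIso (K i)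
  have hCP : ∀ a i, P ((homologyFunctor A i).obj (Q.obj (C a))) := fun a i =>
    P.prop_of_iso ((homologyFunctor A i).mapIso (e a)).symm (hK a i)
  have hJ : ∀ (s : Finset (Discrete ι)) i,
      P ((homologyFunctor A i).obj (Q.obj ((liftToFinsetObj (Discrete.functor C)).obj s))) := fun s i => by
    obtain ⟨h⟩ := isColimit_Q_cofan fun x : s => C x.1.as
    obtain ⟨h'⟩ := isColimit_H_cofan _ _ h i
    exact hP h' fun x => hCP _ i
  obtain ⟨h1⟩ := isColimit_Q_cofan C
  let c : Cofan K := Cofan.mk (Q.obj (∐ C)) fun i => (e i).inv ≫ Q.map (Sigma.ι C i)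
  have hc : IsColimit c := (IsColimit.precomposeHomEquiv (Discrete.natIso fun i => e i.as) _).1
    (h1.ofIsoColimit (Cocone.ext (Iso.refl _) fun i => by simp [c, e]))
  haveI : HasCoproduct fun i => RF.obj (K i) := by
    obtain ⟨h⟩ := isColimit_Q_cofan fun i => Q.objPreimage (RF.obj (K i))
    haveI : HasColimit (Discrete.functor fun i => Q.obj (Q.objPreimage (RF.obj (K i)))) := ⟨⟨⟨_, h⟩⟩⟩
    exact hasColimit_of_iso
      (Discrete.natIso (F := Discrete.functor fun i => RF.obj (K i))
        (G := Discrete.functor fun i => Q.obj (Q.objPreimage (RF.obj (K i))))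
        fun i => (Q.objObjPreimageIso (RF.obj (K i.as))).symm)
  refine preservesColimit_of_preserves_colimit_cocone hc ?_
  let s := Sigma.desc fun i => RF.map (c.inj i)
  suffices IsIso s by
    refine (IsColimit.precomposeHomEquiv (Discrete.natIso (F := Discrete.functor fun i => RF.obj (K i))
      (G := Discrete.functor K ⋙ RF) fun i => Iso.refl _) _).1 ((coproductIsCoproduct fun i => RF.obj (K i)).ofIsoColimit
        (Cocone.ext (asIso s) fun i => ?_))
    obtain ⟨i⟩ := i
    exact (Sigma.ι_desc (fun i => RF.map (c.inj i)) i).trans (Category.id_comp _).symm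
  rw [DerivedCategory.isIso_iff]
  intro j
  let H := homologyFunctor B j
  obtain ⟨h2⟩ := isColimit_H_cofan _ _ (coproductIsCoproduct fun i => RF.obj (K i)) j
  haveI : (G0 RF j).Additive := inferInstance
  obtain ⟨h⟩ := isColimit_G0_stable α hP hN hF' (liftToFinsetObj (Discrete.functor C)) _
    (isColimitFiniteSubproductsCocone C) hJ j
  obtain ⟨h0⟩ := isColimit_cofan_of_finite (G0 RF j) C h
  let ν : Discrete.functor (fun i => H.obj (RF.obj (K i))) ≅ Discrete.functor (fun i => (G0 RF j).obj (C i)) :=
    Discrete.natIso fun i => H.mapIso (RF.mapIso (e i.as).symm)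
  have heq : H.map s = (h2.coconePointsIsoOfNatIso h0 ν).hom := by
    refine Cofan.IsColimit.hom_ext h2 _ _ fun i => ?_
    simp only [cofan_mk_inj]
    refine Eq.trans ?_ (IsColimit.comp_coconePointsIsoOfNatIso_hom h2 h0 ν ⟨i⟩).symm
    simp only [ν, Discrete.natIso_hom_app, Functor.mapIso_hom, Iso.symm_hom, Cofan.mk_ι_app]
    change H.map _ ≫ H.map s = H.map (RF.map (e i).inv) ≫ H.map (RF.map (Q.map (Sigma.ι C i)))
    rw [← Functor.map_comp, ← Functor.map_comp, ← RF.map_comp]
    exact congrArg H.map (Sigma.ι_desc _ _)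
  change IsIso (H.map s)
  rw [heq]
  infer_instance

end Groth.L17.IndRpush.ColimDer
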