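import Groth.Agent.L17.IndRpush.PushColim
import Groth.Agent.L17.IndRpush.ColimUnbdd
import Groth.Agent.L17.IndRpush.WeakSerre

/-!
# The derived direct image commutes with coproducts of objects with ind-coherent cohomology
-/

set_option autoImplicit false
set_option linter.style.haveILetI false
set_option linter.unusedSectionVars false
set_option backward.defeqAttrib.useBackward true
set_option backward.isDefEq.respectTransparency false
set_option backward.isDefEq.respectTransparency.types false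

universe u

open CategoryTheory CategoryTheory.Limits AlgebraicGeometry TopologicalSpace Opposite DerivedCategory

attribute [local instance] HasDerivedCategory.standard

noncomputable section

namespace Groth.L17.IndRpush

variable {𝔛 𝔜 : FSch.Sys.{u}} (hX : 𝔛.IsLocNoethFormal) (h𝔜 : 𝔜.IsFormal) (f : 𝔛 ⟶ 𝔜)

theorem preservesColimit_RpushD [CompactSpace (𝔛.X 0)] [CompactSpace (𝔜.X 0)] [SiteCmp.HasRpushD (fm hX h𝔜 f)]
    (ι : Type u) (E : ι → DerivedCategory (FSch.ModF 𝔛 hX.1))
    (hE : ∀ (a : ι) (i : ℤ), ind hX (SiteCmp.HMod (E a) i)) :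
    PreservesColimit (Discrete.functor E) (SiteCmp.RpushD (fm hX h𝔜 f)) := by
  have hc := fun (V : (𝔜.X 0).Opens) (_ : IsAffineOpen V) =>
    isCompact_of_compactSpace hX ((f : FSch.Hom 𝔛 𝔜).app 0 ⁻¹ᵁ V)
  obtain ⟨_, -, -⟩ := Groth.L10.ModRDer.insts (𝔛.Osh hX.1)
  haveI : IsGrothendieckAbelian.{u} (FSch.ModF 𝔛 hX.1) := Groth.L10.shMod_isGrothendieckAbelian _
  haveI : HasInjectiveResolutions (FSch.ModF 𝔛 hX.1) := inferInstance
  haveI : IsGrothendieckAbelian.{u} (FSch.ModF 𝔜 h𝔜) := Groth.L10.shMod_isGrothendieckAbelian _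
  haveI : IsFiltered (Finset (Discrete ι)) := inferInstance
  haveI := preservesColimitsOfShape_push hX h𝔜 f hc (Finset (Discrete ι))
  haveI : PreservesFiniteLimits (fm hX h𝔜 f).push := inferInstance
  obtain ⟨N, hN⟩ := exists_bdd hX h𝔜 f hc
  haveI := weakSerre_ind hX
  exact ColimDer.preservesColimit_discrete
    ((SiteCmp.pushKh (fm hX h𝔜 f)).totalRightDerivedUnit DerivedCategory.Qh
      (HomotopyCategory.quasiIso (FSch.ModF 𝔛 hX.1) (ComplexShape.up ℤ)))
    (P := ind hX) (fun hl hD => ind_colim hX hl hD) (N := (N : ℤ))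
    (fun G hG n j hj => isIso_H_π hX h𝔜 f hc N hN G hG n j hj)
    (acColim hX h𝔜 f hc (Finset (Discrete ι))) E hE

end Groth.L17.IndRpush
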