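import Groth.Agent.L10.DerivedAdj

/-!
# A left adjoint exact functor induces a left adjoint on unbounded derived categories
-/

set_option autoImplicit false
set_option linter.style.haveILetI false
set_option backward.defeqAttrib.useBackward true
set_option backward.isDefEq.respectTransparency false

universe w w' v v' u u'

open CategoryTheory CategoryTheory.Limits

namespace Groth.L17.IndRpush.DerRightAdj

variable {A : Type u} [Category.{v} A] [Abelian A] {B : Type u'} [Category.{v'} B] [Abelian B]
  [HasDerivedCategory.{w} A] [HasDerivedCategory.{w'} B]

/-- An exact left adjoint induces a left adjoint on derived categories when the target has enough K-injectives. -/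
theorem isLeftAdjoint_mapDerivedCategory (w : B ⥤ A) [w.Additive] [PreservesFiniteLimits w]
    [PreservesFiniteColimits w] [w.IsLeftAdjoint] [Groth.L10.KInjDerived.EnoughKInjectives A] :
    w.mapDerivedCategory.IsLeftAdjoint := by
  let adj := Adjunction.ofIsLeftAdjoint w
  haveI : w.rightAdjoint.Additive := adj.right_adjoint_additive
  let F := w.rightAdjoint.mapHomotopyCategory (ComplexShape.up ℤ) ⋙ DerivedCategory.Qh
  haveI : F.HasRightDerivedFunctor (HomotopyCategory.quasiIso A (ComplexShape.up ℤ)) :=
    Groth.L10.KInjDerived.hasRightDerivedFunctor F
  exact (Groth.L10.DerivedAdj.derived adj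
    (F.totalRightDerived DerivedCategory.Qh (HomotopyCategory.quasiIso A (ComplexShape.up ℤ)))
    (F.totalRightDerivedUnit DerivedCategory.Qh (HomotopyCategory.quasiIso A (ComplexShape.up ℤ)))).isLeftAdjoint

end Groth.L17.IndRpush.DerRightAdj
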