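import Groth.Agent.L09.IndCoh.Coreflect
import Groth.Agent.L00.Comonadic
import Groth.Agent.L10.SheafModGroth
import Mathlib.CategoryTheory.Limits.FullSubcategory
import Mathlib.CategoryTheory.Abelian.Subcategory

/-!
# Small filtered colimits of coherent modules form a Grothendieck abelian category
-/

set_option autoImplicit false
set_option linter.style.haveILetI false
set_option linter.unusedSectionVars false
set_option backward.defeqAttrib.useBackward true
set_option backward.isDefEq.respectTransparency false
set_option backward.isDefEq.respectTransparency.types false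

universe u

open CategoryTheory CategoryTheory.Limits

noncomputable section

namespace Groth.L17.IndRpush.IndGroth

open Groth.L09.IndCoh

variable {𝔛 : FSch.Sys.{u}} (hX : 𝔛.IsLocNoethFormal)
  [(indP hX).ContainsZero] [(indP hX).IsClosedUnderKernels] [(indP hX).IsClosedUnderCokernels]
  [(indP hX).IsClosedUnderFiniteProducts]

theorem closedColim (J : Type u) [SmallCategory J] : (indP hX).IsClosedUnderColimitsOfShape J :=
  ⟨fun _M ⟨p, hp⟩ => (ind_iff_good hX).2 (good_colim hX p.isColimit fun j => (ind_iff_good hX).1 (hp j))⟩

theorem isGrothendieckAbelian [PreservesFiniteLimits (indP hX).ι] [PreservesFiniteColimits (indP hX).ι] :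
    IsGrothendieckAbelian.{u} (indP hX).FullSubcategory := by
  haveI : IsGrothendieckAbelian.{u} (FSch.ModF 𝔛 hX.1) := Groth.L10.shMod_isGrothendieckAbelian _
  haveI : HasColimitsOfSize.{u, u} (indP hX).FullSubcategory := ⟨fun J _ => by
    haveI := closedColim hX J
    infer_instance⟩
  haveI := isLeftAdjoint_indι hX
  haveI : AB5OfSize.{u, u} (indP hX).FullSubcategory :=
    Groth.L00.Comonadic.ab5 (indP hX).ι _ (Adjunction.ofIsLeftAdjoint (indP hX).ι)
  haveI : PreservesColimitsOfSize.{u, u} (indP hX).ι :=
    (Adjunction.ofIsLeftAdjoint (indP hX).ι).leftAdjoint_preservesColimits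
  haveI : HasSeparator (indP hX).FullSubcategory := by
    obtain ⟨κ, F, hF, hrep⟩ := exists_coh_family hX
    let t : κ → (indP hX).FullSubcategory := fun k => ⟨F k, ObjectProperty.le_ind.{u} _ _ (hF k)⟩
    refine ⟨⟨∐ t, (isSeparator_sigma t).2 ?_⟩⟩
    intro M N f g hfg
    obtain ⟨J, _, _, pres, hp⟩ := M.property
    apply (indP hX).ι.map_injective
    refine pres.isColimit.hom_ext fun j => ?_
    obtain ⟨k, ⟨e⟩⟩ := hrep _ (hp j)
    rw [← cancel_epi e.inv]
    have h := hfg (t k) (ObjectProperty.ofObj_apply t k) (ObjectProperty.homMk (e.inv ≫ pres.ι.app j))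
    exact (Category.assoc _ _ _).symm.trans ((congrArg (fun m => m.hom) h).trans (Category.assoc _ _ _))
  exact { }

end Groth.L17.IndRpush.IndGroth
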