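import Groth.Agent.L17.IndRpush.BrownTransfer
import Groth.Agent.L17.IndRpush.IndGroth
import Groth.Agent.L17.IndRpush.DerRightAdj
import Groth.Agent.L17.IndRpush.Coprod
import Groth.Agent.L29.DCoh.Gen.RpushTri
import Groth.Agent.L10.UnitIso

/-!
# The right adjoint of the derived direct image on the derived category of ind-coherent modules
-/

set_option autoImplicit false
set_option linter.style.haveILetI false
set_option linter.unusedSectionVars false
set_option backward.defeqAttrib.useBackward true
set_option backward.isDefEq.respectTransparency false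
set_option backward.isDefEq.respectTransparency.types false

universe w₁ w₂ w₃ v u₁ u₂ u₃ u

open CategoryTheory CategoryTheory.Limits

noncomputable section

namespace Groth.L17.IndRpush.IndBrown

section Generic

variable {C : Type u₁} [Category.{v} C] [Abelian C] [IsGrothendieckAbelian.{v} C] [HasDerivedCategory.{w₁} C]
  {A : Type u₂} [Category.{v} A] [Abelian A] [IsGrothendieckAbelian.{v} A] [HasDerivedCategory.{w₂} A]
  {B : Type u₃} [Category.{v} B] [Abelian B] [IsGrothendieckAbelian.{v} B] [HasDerivedCategory.{w₃} B]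
  (w : C ⥤ A) [w.Additive] [PreservesFiniteLimits w] [PreservesFiniteColimits w] [w.IsLeftAdjoint]
  (F : A ⥤ B) [F.Additive] (RF : DerivedCategory A ⥤ DerivedCategory B)
  (α : F.mapHomotopyCategory (ComplexShape.up ℤ) ⋙ DerivedCategory.Qh ⟶ DerivedCategory.Qh ⋙ RF)
  [RF.IsRightDerivedFunctor α (HomotopyCategory.quasiIso A (ComplexShape.up ℤ))]

include α in
theorem isLeftAdjoint_comp (hcop : ∀ (κ : Type v) (E : κ → DerivedCategory A),
      (∀ k i, w.essImage ((DerivedCategory.homologyFunctor A i).obj (E k))) → PreservesColimit (Discrete.functor E) RF) :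
    (w.mapDerivedCategory ⋙ RF).IsLeftAdjoint := by
  haveI := BrownTransfer.locallySmall (A := B)
  let J := w.mapDerivedCategory
  haveI : J.IsLeftAdjoint := DerRightAdj.isLeftAdjoint_mapDerivedCategory w
  letI := Groth.L29.DC.RDTri.commShift α
  haveI : RF.IsTriangulated := Groth.L29.DC.RDTri.isTriangulated α
  haveI : ∀ κ : Type v, PreservesColimitsOfShape (Discrete κ) (J ⋙ RF) := fun κ => by
    haveI : PreservesColimitsOfShape (Discrete κ) J :=
      (Adjunction.ofIsLeftAdjoint J).leftAdjoint_preservesColimits.preservesColimitsOfShape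
    haveI : ∀ K : κ → DerivedCategory C, PreservesColimit (Discrete.functor K) (J ⋙ RF) := fun K => by
      haveI : PreservesColimit (Discrete.functor fun k => J.obj (K k)) RF :=
        hcop κ _ fun k i => ⟨_, ⟨((Groth.L10.UnitIso.homologyNatIso w i).app (K k)).symm⟩⟩
      haveI : PreservesColimit (Discrete.functor K ⋙ J) RF :=
        preservesColimit_of_iso_diagram RF
          (Discrete.natIso fun _ => Iso.refl _ : Discrete.functor (fun k => J.obj (K k)) ≅ Discrete.functor K ⋙ J)
      exact comp_preservesColimit J RF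
    exact preservesColimitsOfShape_of_discrete _
  exact BrownTransfer.isLeftAdjoint _

end Generic

attribute [local instance] HasDerivedCategory.standard

open Groth.L09.IndCoh (indP)

variable {𝔛 𝔜 : FSch.Sys.{u}} (hX : 𝔛.IsLocNoethFormal) (h𝔜 : 𝔜.IsFormal) (f : 𝔛 ⟶ 𝔜)

theorem isLeftAdjoint_mapDerived_RpushD [CompactSpace (𝔛.X 0)] [CompactSpace (𝔜.X 0)]
    [(indP hX).ContainsZero] [(indP hX).IsClosedUnderKernels] [(indP hX).IsClosedUnderCokernels]
    [(indP hX).IsClosedUnderFiniteProducts]
    [PreservesFiniteLimits (indP hX).ι] [PreservesFiniteColimits (indP hX).ι]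
    [SiteCmp.HasRpushD (FSch.homMor f hX.1 h𝔜)] :
    ((indP hX).ι.mapDerivedCategory ⋙ SiteCmp.RpushD (FSch.homMor f hX.1 h𝔜)).IsLeftAdjoint := by
  haveI : IsGrothendieckAbelian.{u} (FSch.ModF 𝔛 hX.1) := Groth.L10.shMod_isGrothendieckAbelian _
  haveI : IsGrothendieckAbelian.{u} (FSch.ModF 𝔜 h𝔜) := Groth.L10.shMod_isGrothendieckAbelian _
  haveI := IndGroth.isGrothendieckAbelian hX
  haveI := Groth.L09.IndCoh.isLeftAdjoint_indι hX
  exact isLeftAdjoint_comp (indP hX).ι (FSch.homMor f hX.1 h𝔜).push _
    ((SiteCmp.pushKh (FSch.homMor f hX.1 h𝔜)).totalRightDerivedUnit DerivedCategory.Qh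
      (HomotopyCategory.quasiIso (FSch.ModF 𝔛 hX.1) (ComplexShape.up ℤ)))
    fun κ E hE => preservesColimit_RpushD hX h𝔜 f κ E fun k i => by
      obtain ⟨M, ⟨e⟩⟩ := hE k i
      exact (indP hX).prop_of_iso e M.property

end Groth.L17.IndRpush.IndBrown
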