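import Groth.Agent.L17.IndRpush.Bound
import Groth.Agent.L17.RpushSect
import Groth.Agent.L10.ModRDer
import Groth.Prelude.Def_FSch5

/-!
# Higher direct images of ind-coherent modules on formal schemes vanish above a bound, truncation stability
-/

set_option autoImplicit false
set_option linter.style.haveILetI false
set_option linter.unusedSectionVars false
set_option backward.defeqAttrib.useBackward true
set_option backward.isDefEq.respectTransparency false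
set_option backward.isDefEq.respectTransparency.types false

universe u

open CategoryTheory CategoryTheory.Limits AlgebraicGeometry TopologicalSpace Opposite Abelian DerivedCategory

attribute [local instance] HasDerivedCategory.standard

noncomputable section

namespace Groth.L17.IndRpush

open Groth.L17.FSheaf Groth.L17.FSheaf.GrQuot Groth.L17.RpushSect

section Basis

variable {X Y : TopCat.{u}} {OX : Sheaf (Opens.grothendieckTopology X) CommRingCat.{u}}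
  {OY : Sheaf (Opens.grothendieckTopology Y) CommRingCat.{u}}

/-- Higher direct images vanish when the cohomology of the preimages of a basis does. -/
theorem isZero_Rpush_of_basis (φ : ModSite.RMor OX OY) [HasInjectiveResolutions (ModSite.Mod OX)] {q : ℕ}
    (M : ModSite.Mod OX) {B : Set (Opens Y)} (hB : Opens.IsBasis B)
    (h : ∀ W ∈ B, ∀ x : HU (φ.fn.obj W) ((SheafOfModules.toSheaf _).obj M) q, x = 0) :
    IsZero ((φ.Rpush q).obj M) := by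
  rw [IsZero.iff_id_eq_zero]
  apply SheafOfModules.hom_ext
  apply PresheafOfModules.hom_ext
  intro W
  ext y
  show y = 0
  refine Groth.L17.FSheaf.eq_of_locally (R := ModSite.ringSh OY) _ _ _ fun x hx => ?_
  obtain ⟨V', hV, hxV, p, hp⟩ := exists_local_preimage φ q M y x hx
  obtain ⟨W', hW', hxW', hle⟩ := Opens.isBasis_iff_nbhd.1 hB hxV
  refine ⟨W', hle.trans hV, hxW', ?_⟩
  have h0 : (puRes φ q hle).app M p = 0 := (puEquiv φ q W' M).injective ((h W' hW' _).trans (map_zero _).symm)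
  have h1 := ΦV_res φ q hle M p
  rw [h0, map_zero, hp] at h1
  refine (Eq.trans ?_ h1.symm).trans (Groth.L17.FSheaf.res_zero (R := ModSite.ringSh OY) _ (hle.trans hV)).symm
  exact (Groth.L17.FSheaf.res_res (R := ModSite.ringSh OY) _ hV hle y).symm

end Basis

variable {𝔛 𝔜 : FSch.Sys.{u}} (hX : 𝔛.IsLocNoethFormal) (h𝔜 : 𝔜.IsFormal) (f : 𝔛 ⟶ 𝔜)

/-- The ringed-site morphism. -/
abbrev fm : ModSite.RMor (𝔛.Osh hX.1) (𝔜.Osh h𝔜) := FSch.homMor f hX.1 h𝔜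

/-- A uniform bound for the higher direct images of ind-coherent modules. -/
def Bdd (N : ℕ) [HasInjectiveResolutions (FSch.ModF 𝔛 hX.1)] : Prop :=
  ∀ M : FSch.ModF 𝔛 hX.1, (ObjectProperty.ind.{u} fun 𝔊 : FSch.ModF 𝔛 hX.1 => FSch.IsCohF 𝔛 hX.1 𝔊) M →
    ∀ p : ℕ, N < p → IsZero (((fm hX h𝔜 f).Rpush p).obj M)

variable (hc : ∀ V : (𝔜.X 0).Opens, IsAffineOpen V →
  IsCompact ((f : FSch.Hom 𝔛 𝔜).app 0 ⁻¹ᵁ V : Set (𝔛.X 0)))

include hc in
/-- Over a quasi-compact base the higher direct images are bounded. -/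
theorem exists_bdd [HasInjectiveResolutions (FSch.ModF 𝔛 hX.1)] [CompactSpace (𝔜.X 0)] :
    ∃ N : ℕ, Bdd hX h𝔜 f N := by
  let g := (f : FSch.Hom 𝔛 𝔜).app 0
  let 𝒰 := {V : (𝔜.X 0).Opens // IsAffineOpen V}
  obtain ⟨t, ht⟩ := isCompact_univ.elim_finite_subcover (fun V : 𝒰 => (V.1 : Set (𝔜.X 0))) (fun V => V.1.2)
    fun x _ => by
      obtain ⟨V, hV, hxV, -⟩ := Opens.isBasis_iff_nbhd.1 (𝔜.X 0).isBasis_affineOpens (Opens.mem_top x)
      exact Set.mem_iUnion.2 ⟨⟨V, hV⟩, hxV⟩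
  choose d hd using fun V : 𝒰 => exists_bound_ind hX (U := g ⁻¹ᵁ V.1) (hc V.1 V.2)
  refine ⟨t.sup d, fun M hM p hp => ?_⟩
  refine isZero_Rpush_of_basis (fm hX h𝔜 f) M
    (B := {W : (𝔜.X 0).Opens | IsAffineOpen W ∧ ∃ V ∈ t, W ≤ V.1}) (Opens.isBasis_iff_nbhd.2 fun {U x} hx => ?_) ?_
  · obtain ⟨V, hVt, hxV⟩ := Set.mem_iUnion₂.1 (ht (Set.mem_univ x))
    obtain ⟨W, hW, hxW, hle⟩ := Opens.isBasis_iff_nbhd.1 (𝔜.X 0).isBasis_affineOpens
      (show x ∈ U ⊓ V.1 from ⟨hx, hxV⟩)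
    exact ⟨W, ⟨hW, V, hVt, hle.trans inf_le_right⟩, hxW, hle.trans inf_le_left⟩
  · rintro W ⟨hW, V, hVt, hWV⟩
    exact hd V (g ⁻¹ᵁ W) (g.preimage_mono hWV) (affOn_preimage g V.2 hW hWV) M hM p
      (le_trans (Finset.le_sup hVt) (le_of_lt hp))

/-- Truncations are stable. -/
theorem isIso_H_π [SiteCmp.HasRpushD (fm hX h𝔜 f)] [HasInjectiveResolutions (FSch.ModF 𝔛 hX.1)]
    (hc : ∀ V : (𝔜.X 0).Opens, IsAffineOpen V → IsCompact ((f : FSch.Hom 𝔛 𝔜).app 0 ⁻¹ᵁ V : Set (𝔛.X 0)))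
    (N : ℕ) (hN : Bdd hX h𝔜 f N) (G : DerivedCategory (FSch.ModF 𝔛 hX.1))
    (hG : ∀ i : ℤ, (ObjectProperty.ind.{u} fun 𝔊 : FSch.ModF 𝔛 hX.1 => FSch.IsCohF 𝔛 hX.1 𝔊) (SiteCmp.HMod G i))
    (n : ℕ) (j : ℤ) (hj : (N : ℤ) - (n : ℤ) ≤ j) :
    IsIso ((homologyFunctor (FSch.ModF 𝔜 h𝔜) j).map
      ((SiteCmp.RpushD (fm hX h𝔜 f)).map ((DerivedCategory.TStructure.t.truncGEπ (-(n : ℤ))).app G))) := by
  let g := (f : FSch.Hom 𝔛 𝔜).app 0
  have cov : ∀ (Z : Scheme.{u}) (U : Z.Opens), ∃ (ι : Type u) (Y : ι → Z.Opens) (k : ∀ i, Y i ⟶ U),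
      Sieve.ofArrows Y k ∈ Opens.grothendieckTopology Z U ∧ ∀ i, Y i ∈ Z.affineOpens := fun Z U => by
    refine ⟨{W : Z.Opens // IsAffineOpen W ∧ W ≤ U}, fun W => W.1, fun W => homOfLE W.2.2, fun x hx => ?_, fun W => W.2.1⟩
    obtain ⟨W, hW, hxW, hWU⟩ := exists_isAffineOpen_mem_and_subset hx
    exact ⟨W, homOfLE hWU, (Sieve.mem_ofArrows_iff _ _ _).2 ⟨⟨W, hW, hWU⟩, 𝟙 _, Subsingleton.elim _ _⟩, hxW⟩
  have refn : ∀ (Z : Scheme.{u}) (V : Z.Opens) (T : Sieve V), T ∈ Opens.grothendieckTopology Z V →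
      ∃ (ι : Type u) (Y : ι → Z.Opens) (k : ∀ i, Y i ⟶ V), (∀ i, T.arrows (k i)) ∧
        Sieve.ofArrows Y k ∈ Opens.grothendieckTopology Z V ∧ ∀ i, IsAffineOpen (Y i) := fun Z V T hT => by
    refine ⟨{W : Z.Opens // IsAffineOpen W ∧ ∃ h : W ⟶ V, T.arrows h}, Subtype.val, fun W => W.2.2.choose,
      fun W => W.2.2.choose_spec, fun x hx => ?_, fun W => W.2.1⟩
    obtain ⟨W', h, hT', hxW⟩ := hT x hx
    obtain ⟨W, hW, hxW', hWW'⟩ := exists_isAffineOpen_mem_and_subset hxW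
    let k : W ⟶ W' := homOfLE hWW'
    exact ⟨W, k ≫ h, (Sieve.mem_ofArrows_iff _ _ _).2
      ⟨⟨W, hW, ⟨k ≫ h, T.downward_closed hT' k⟩⟩, 𝟙 _, Subsingleton.elim _ _⟩, hxW'⟩
  refine Groth.L10.ModRDer.isIso_left (fm hX h𝔜 f)
    ((SiteCmp.pushKh (fm hX h𝔜 f)).totalRightDerivedUnit DerivedCategory.Qh
      (HomotopyCategory.quasiIso (FSch.ModF 𝔛 hX.1) (ComplexShape.up ℤ)))
    (ObjectProperty.ind.{u} fun 𝔊 : FSch.ModF 𝔛 hX.1 => FSch.IsCohF 𝔛 hX.1 𝔊)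
    (𝔛.X 0).affineOpens (𝔜.X 0).affineOpens (cov _) ?_ (cov _) N (fun M hM p hp => hN M hM p (by exact_mod_cast hp))
    G hG n j hj ?_
  · intro V hV
    refine ⟨0, fun T hT => ?_⟩
    obtain ⟨ι, Y, k, h1, h2, h3⟩ := refn _ V T hT
    refine ⟨ι, Y, k, h1, h2, fun i M hM p hp => ?_⟩
    obtain ⟨m, rfl⟩ : ∃ m, p = m + 1 := ⟨p - 1, by omega⟩
    exact subsingleton_of_forall_eq 0 (acyclicOn_ind hX hM (Y i) (h3 i) m)
  · intro V hV
    obtain ⟨d, hd⟩ := exists_bound_ind hX (U := g ⁻¹ᵁ V) (hc V hV)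
    refine ⟨d, fun T hT => ?_⟩
    obtain ⟨ι, Y, k, h1, h2, h3⟩ := refn _ V T hT
    refine ⟨ι, Y, k, h1, h2, fun i M hM p hp => ?_⟩
    exact subsingleton_of_forall_eq 0 (hd (g ⁻¹ᵁ Y i) (g.preimage_mono (leOfHom (k i)))
      (affOn_preimage g hV (h3 i) (leOfHom (k i))) M hM p (le_of_lt hp))

end Groth.L17.IndRpush
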