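import Groth.Agent.L10.RDerCohIn
import Groth.Agent.L17.AcyclicMap
import Groth.Agent.L29.DCoh.BoundedInjRes
import Groth.Agent.L29.DCoh.HomologyColim
import Mathlib.CategoryTheory.Abelian.GrothendieckCategory.Basic
import Mathlib.Algebra.Homology.Factorizations.CM5a

/-!
# Derived functors and filtered colimits of uniformly bounded below complexes

If `F` commutes with filtered colimits and filtered colimits of injectives are `F`-acyclic, so does `RF`.
-/

set_option autoImplicit false
set_option linter.style.haveILetI false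
set_option linter.unusedSectionVars false
set_option backward.defeqAttrib.useBackward true
set_option backward.isDefEq.respectTransparency false
set_option backward.isDefEq.respectTransparency.types false

universe w w' v u u'

open CategoryTheory CategoryTheory.Limits DerivedCategory

noncomputable section

namespace Groth.L17.IndRpush.ColimDer

open Groth.L10
open Groth.L29.DC (BddInjRes.exists_functorial)

variable {A : Type u} [Category.{v} A] [Abelian A] [IsGrothendieckAbelian.{v} A] [HasDerivedCategory.{w} A]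
  [HasInjectiveResolutions A] [EnoughInjectives A]
  {B : Type u'} [Category.{v} B] [Abelian B] [HasDerivedCategory.{w'} B] {F : A ⥤ B} [F.Additive]
  {RF : DerivedCategory A ⥤ DerivedCategory B}
  (α : F.mapHomotopyCategory (ComplexShape.up ℤ) ⋙ Qh ⟶ Qh ⋙ RF)
  [RF.IsRightDerivedFunctor α (HomotopyCategory.quasiIso A (ComplexShape.up ℤ))]

variable (RF) in
/-- `H^i RF` on complexes -/
abbrev G0 (i : ℤ) : CochainComplex A ℤ ⥤ B := Q ⋙ RF ⋙ homologyFunctor B i

variable (F) in
/-- `H^i F` on complexes -/
abbrev G1 (i : ℤ) : CochainComplex A ℤ ⥤ B :=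
  F.mapHomologicalComplex (ComplexShape.up ℤ) ⋙ HomologicalComplex.homologyFunctor B (ComplexShape.up ℤ) i

/-- the comparison map -/
def cmp (i : ℤ) : G1 F i ⟶ G0 RF i :=
  Functor.whiskerLeft (F.mapHomologicalComplex (ComplexShape.up ℤ)) (homologyFunctorFactors B i).inv ≫
    Functor.whiskerRight
      (Functor.whiskerLeft (F.mapHomologicalComplex (ComplexShape.up ℤ)) (quotientCompQhIso B).inv ≫
        Functor.whiskerLeft (HomotopyCategory.quotient A (ComplexShape.up ℤ)) α ≫
        Functor.whiskerRight (quotientCompQhIso A).hom RF)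
      (homologyFunctor B i)

theorem isIso_cmp (i : ℤ) (K : CochainComplex A ℤ)
    (h : IsIso (α.app ((HomotopyCategory.quotient A (ComplexShape.up ℤ)).obj K))) :
    IsIso ((cmp α i).app K) := by
  haveI := h
  simp only [cmp, NatTrans.comp_app, Functor.whiskerLeft_app, Functor.whiskerRight_app, Functor.map_comp]
  infer_instance

theorem isIso_G0_map (i : ℤ) {K L : CochainComplex A ℤ} (g : K ⟶ L) [QuasiIso g] : IsIso ((G0 RF i).map g) := by
  haveI : IsIso (Q.map g) := (DerivedCategory.isIso_Q_map_iff_quasiIso _ g).2 inferInstance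
  exact inferInstanceAs (IsIso ((homologyFunctor B i).map (RF.map (Q.map g))))

variable [PreservesFiniteLimits F]

/-- Bounded below complexes of acyclic objects compute the derived functor. -/
theorem isIso_unit_bddBelow (K : CochainComplex A ℤ) (a : ℤ) [K.IsStrictlyGE a]
    (hac : ∀ n, Groth.L17.GrothSS.RAcyclic F (K.X n)) :
    IsIso (α.app ((HomotopyCategory.quotient A (ComplexShape.up ℤ)).obj K)) := by
  obtain ⟨I, i, hi, hI, hge⟩ := CochainComplex.Plus.modelCategoryQuillen.exists_quasiIso_injective K a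
  have : ∀ m, Injective (I.X m) := hI
  haveI := CochainComplex.isKInjective_of_injective I a
  haveI := KInjDerived.isIso_app_quotient (RF := RF) α I
  haveI : QuasiIso ((F.mapHomologicalComplex (ComplexShape.up ℤ)).map i) :=
    Groth.L17.GrothSS.quasiIso_map F i a a hac fun n q hq => by
      obtain ⟨k, rfl⟩ : ∃ k, q = k + 1 := ⟨q - 1, by omega⟩
      exact F.isZero_rightDerived_obj_injective_succ k _
  let w := (HomotopyCategory.quotient A (ComplexShape.up ℤ)).map i
  haveI : IsIso ((F.mapHomotopyCategory (ComplexShape.up ℤ) ⋙ Qh).map w) := by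
    change IsIso (Qh.map ((HomotopyCategory.quotient B (ComplexShape.up ℤ)).map
      ((F.mapHomologicalComplex (ComplexShape.up ℤ)).map i)))
    exact Localization.inverts Qh (HomotopyCategory.quasiIso B (ComplexShape.up ℤ)) _
      ((HomotopyCategory.quotient_map_mem_quasiIso_iff _).2 ((HomologicalComplex.mem_quasiIso_iff _).2 inferInstance))
  haveI : IsIso ((Qh ⋙ RF).map w) :=
    haveI := Localization.inverts Qh (HomotopyCategory.quasiIso A (ComplexShape.up ℤ)) w
      ((HomotopyCategory.quotient_map_mem_quasiIso_iff _).2 ((HomologicalComplex.mem_quasiIso_iff _).2 inferInstance))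
    inferInstanceAs (IsIso (RF.map (Qh.map w)))
  haveI : IsIso (α.app _ ≫ (Qh ⋙ RF).map w) := by
    rw [← α.naturality w]; exact IsIso.comp_isIso
  exact IsIso.of_isIso_comp_right (α.app _) ((Qh ⋙ RF).map w)

variable (J : Type v) [SmallCategory J] [IsFiltered J]

variable (F) in
/-- Filtered colimits of injectives are `F`-acyclic. -/
def AcColim : Prop :=
  ∀ (D : J ⥤ A) (c : Cocone D), IsColimit c → (∀ j, Injective (D.obj j)) → Groth.L17.GrothSS.RAcyclic F c.pt

variable {J} [IsGrothendieckAbelian.{v} B] [PreservesColimitsOfShape J F] (hF : AcColim F J)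
  (C : J ⥤ CochainComplex A ℤ) (c : Cocone C) (hc : IsColimit c) (n : ℤ) (hC : ∀ j, (Q.obj (C.obj j)).IsGE n)

include hc hC hF in
theorem exists_model :
    ∃ (D : J ⥤ CochainComplex A ℤ) (ρ : C ⟶ D) (d : Cocone D) (_ : IsColimit d) (θ : c.pt ⟶ d.pt),
      (∀ j, c.ι.app j ≫ θ = ρ.app j ≫ d.ι.app j) ∧ (∀ j, QuasiIso (ρ.app j)) ∧ QuasiIso θ ∧
      (∀ j, IsIso (α.app ((HomotopyCategory.quotient A (ComplexShape.up ℤ)).obj (D.obj j)))) ∧
      IsIso (α.app ((HomotopyCategory.quotient A (ComplexShape.up ℤ)).obj d.pt)) := by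
  obtain ⟨R, r, hR⟩ := BddInjRes.exists_functorial (A := A) n
  have hex : ∀ j (i : ℤ), i < n → (C.obj j).ExactAt i := fun j i hi => by
    rw [HomologicalComplex.exactAt_iff_isZero_homology]
    haveI := hC j
    exact (DerivedCategory.isZero_of_isGE (Q.obj (C.obj j)) n i hi).of_iso
      ((homologyFunctorFactors A i).app (C.obj j)).symm
  have hq : ∀ j, QuasiIso (r.app (C.obj j)) ∧ ∀ k, Injective ((R.obj (C.obj j)).X k) := fun j =>
    (hR (C.obj j)).2 (hex j)
  let ρ : C ⟶ C ⋙ R := Functor.whiskerLeft C r
  let d := colimit.cocone (C ⋙ R)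
  let θ : c.pt ⟶ d.pt := hc.desc ((Cocone.precompose ρ).obj d)
  have hθ : ∀ j, c.ι.app j ≫ θ = ρ.app j ≫ d.ι.app j := fun j => hc.fac _ j
  refine ⟨C ⋙ R, ρ, d, colimit.isColimit _, θ, hθ, fun j => (hq j).1, ?_, fun j => ?_, ?_⟩
  · rw [quasiIso_iff]
    intro i
    rw [quasiIsoAt_iff_isIso_homologyMap]
    haveI := Groth.L29.DC.HomologyColim.preservesColimitsOfShape_homology (A := A) (J := J) (ComplexShape.up ℤ) i
    let H := HomologicalComplex.homologyFunctor A (ComplexShape.up ℤ) i
    haveI : ∀ j, IsIso ((Functor.whiskerRight ρ H).app j) := fun j => by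
      haveI : QuasiIso (ρ.app j) := (hq j).1
      exact (quasiIsoAt_iff_isIso_homologyMap _ i).1 inferInstance
    haveI := NatIso.isIso_of_isIso_app (Functor.whiskerRight ρ H)
    have e : H.map θ = ((isColimitOfPreserves H hc).coconePointsIsoOfNatIso
        (isColimitOfPreserves H (colimit.isColimit (C ⋙ R))) (asIso (Functor.whiskerRight ρ H))).hom :=
      (isColimitOfPreserves H hc).hom_ext fun j => by
        rw [IsColimit.comp_coconePointsIsoOfNatIso_hom]
        simp only [Functor.mapCocone_ι_app, asIso_hom, Functor.whiskerRight_app, ← Functor.map_comp]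
        exact congrArg H.map (hθ j)
    change IsIso (H.map θ)
    rw [e]
    infer_instance
  · haveI := (hR (C.obj j)).1
    haveI : ∀ k, Injective ((R.obj (C.obj j)).X k) := (hq j).2
    exact isIso_unit_bddBelow α (R.obj (C.obj j)) (n - 1) fun k q hq' => by
      obtain ⟨p, rfl⟩ : ∃ p, q = p + 1 := ⟨q - 1, by omega⟩
      exact F.isZero_rightDerived_obj_injective_succ p _
  · have he : ∀ k, IsColimit ((HomologicalComplex.eval A (ComplexShape.up ℤ) k).mapCocone d) := fun k =>
      isColimitOfPreserves _ (colimit.isColimit (C ⋙ R))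
    haveI : d.pt.IsStrictlyGE (n - 1) := (CochainComplex.isStrictlyGE_iff _ _).2 fun k hk =>
      IsColimit.isZero_pt (he k) (Functor.isZero _ fun j => by
        haveI := (hR (C.obj j)).1
        exact CochainComplex.isZero_of_isStrictlyGE (R.obj (C.obj j)) (n - 1) k hk)
    exact isIso_unit_bddBelow α d.pt (n - 1) fun k => hF _ _ (he k) fun j => (hq j).2 k

include α hF hc hC in
/-- The derived functor commutes with filtered colimits of uniformly bounded below complexes. -/
theorem isColimit_G0 (i : ℤ) : Nonempty (IsColimit ((G0 RF i).mapCocone c)) := by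
  haveI := Groth.L29.DC.HomologyColim.preservesColimitsOfShape_homology (A := B) (J := J) (ComplexShape.up ℤ) i
  obtain ⟨D, ρ, d, hd, θ, hθ, hρ, hθq, hDu, hdu⟩ := exists_model α hF C c hc n hC
  have hDj := fun j => isIso_cmp α i (D.obj j) (hDu j)
  haveI := isIso_cmp α i d.pt hdu
  haveI : ∀ j, IsIso ((Functor.whiskerLeft D (cmp α i)).app j) := hDj
  haveI := NatIso.isIso_of_isIso_app (Functor.whiskerLeft D (cmp α i))
  have h1 : IsColimit ((G0 RF i).mapCocone d) :=
    ((IsColimit.precomposeHomEquiv (asIso (Functor.whiskerLeft D (cmp α i))) _).1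
      (IsColimit.ofIsoColimit (isColimitOfPreserves (G1 F i) hd)
        (Cocone.ext (asIso ((cmp α i).app d.pt)) fun j => ((cmp α i).naturality (d.ι.app j)))))
  haveI : ∀ j, IsIso ((Functor.whiskerRight ρ (G0 RF i)).app j) := fun j =>
    haveI := hρ j
    isIso_G0_map i (ρ.app j)
  haveI := NatIso.isIso_of_isIso_app (Functor.whiskerRight ρ (G0 RF i))
  haveI := isIso_G0_map (RF := RF) i θ
  exact ⟨IsColimit.ofIsoColimit ((IsColimit.precomposeHomEquiv (asIso (Functor.whiskerRight ρ (G0 RF i))) _).symm h1)
    (Cocone.ext (asIso ((G0 RF i).map θ)) fun j => by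
      change (G0 RF i).map (c.ι.app j) ≫ (G0 RF i).map θ = (G0 RF i).map (ρ.app j) ≫ (G0 RF i).map (d.ι.app j)
      rw [← Functor.map_comp, ← Functor.map_comp, hθ]).symm⟩

include α hF in
/-- A higher derived functor at a filtered colimit is a colimit of the values at the stages. -/
theorem exists_rightDerived_colimit (D : J ⥤ A) (d : Cocone D) (hd : IsColimit d) (p : ℕ) :
    ∃ (E : J ⥤ B) (e : Cocone E), Nonempty (IsColimit e) ∧ Nonempty (e.pt ≅ (F.rightDerived p).obj d.pt) ∧
      ∀ j, Nonempty (E.obj j ≅ (F.rightDerived p).obj (D.obj j)) := by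
  let S := HomologicalComplex.single A (ComplexShape.up ℤ) 0
  let φ : ∀ M : A, Nonempty ((G0 RF (p : ℤ)).obj (S.obj M) ≅ (F.rightDerived p).obj M) := fun M => by
    obtain ⟨e⟩ := (RDerTri.isGE_single α M).2 p
    exact ⟨(homologyFunctor B (p : ℤ)).mapIso (RF.mapIso ((DerivedCategory.singleFunctorIsoCompQ A 0).symm.app M)) ≪≫ e⟩
  have hS : IsColimit (S.mapCocone d) := by
    haveI : PreservesColimitsOfShape J S := by
      refine ⟨fun {K} => preservesColimit_of_preserves_colimit_cocone (colimit.isColimit K) ?_⟩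
      refine HomologicalComplex.isColimitOfEval _ _ fun k => ?_
      by_cases hk : k = 0
      · subst hk
        exact (IsColimit.precomposeHomEquiv ((Functor.associator _ _ _) ≪≫ Functor.isoWhiskerLeft K
            (HomologicalComplex.singleCompEvalIsoSelf A (ComplexShape.up ℤ) 0) ≪≫ K.rightUnitor).symm _).1
          ((colimit.isColimit K).ofIsoColimit (Cocone.ext
            ((HomologicalComplex.singleCompEvalIsoSelf A (ComplexShape.up ℤ) 0).app (colimit K)).symm fun j => by
              simpa using (HomologicalComplex.singleCompEvalIsoSelf A (ComplexShape.up ℤ) 0).inv.naturality (colimit.ι K j)))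
      · exact IsColimit.ofIsZero _ (Functor.isZero _ fun j =>
          HomologicalComplex.isZero_single_obj_X (ComplexShape.up ℤ) 0 (K.obj j) k hk) (HomologicalComplex.isZero_single_obj_X (ComplexShape.up ℤ) 0 (colimit K) k hk)
    exact isColimitOfPreserves S hd
  have hge : ∀ j, (Q.obj ((D ⋙ S).obj j)).IsGE 0 := fun j =>
    (DerivedCategory.isGE_Q_obj_iff _ _).2
      (haveI : ((CochainComplex.singleFunctor A 0).obj (D.obj j)).IsStrictlyGE 0 := inferInstance
       inferInstanceAs (((CochainComplex.singleFunctor A 0).obj (D.obj j)).IsGE 0))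
  obtain ⟨h⟩ := isColimit_G0 α hF (D ⋙ S) _ hS 0 hge (p : ℤ)
  exact ⟨_, _, ⟨h⟩, φ d.pt, fun j => φ _⟩

end Groth.L17.IndRpush.ColimDer
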