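import Groth.Agent.L17.IndRpush.Amp
import Groth.Agent.L17.IndRpush.ColimDer
import Groth.Agent.L10.TopCoh

/-!
# Direct images on formal schemes and filtered colimits
-/

set_option autoImplicit false
set_option linter.style.haveILetI false
set_option linter.unusedSectionVars false
set_option backward.defeqAttrib.useBackward true
set_option backward.isDefEq.respectTransparency false
set_option backward.isDefEq.respectTransparency.types false

universe u

open CategoryTheory CategoryTheory.Limits AlgebraicGeometry TopologicalSpace Opposite DerivedCategory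

attribute [local instance] HasDerivedCategory.standard

noncomputable section

namespace Groth.L17.IndRpush

open Groth.L17.FSheaf Groth.L17.FSheaf.GrQuot

variable {𝔛 𝔜 : FSch.Sys.{u}} (hX : 𝔛.IsLocNoethFormal) (h𝔜 : 𝔜.IsFormal) (f : 𝔛 ⟶ 𝔜)
  (hc : ∀ V : (𝔜.X 0).Opens, IsAffineOpen V → IsCompact ((f : FSch.Hom 𝔛 𝔜).app 0 ⁻¹ᵁ V : Set (𝔛.X 0)))
  (Λ : Type u) [SmallCategory Λ] [IsFiltered Λ]

include hX hc in
/-- Higher direct images of abelian sheaves commute with filtered colimits. -/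
theorem preservesColimitsOfShape_RpushTop (p : ℕ) :
    PreservesColimitsOfShape Λ (CohSite.Rpush (Opens.grothendieckTopology (𝔛.X 0))
      (Opens.grothendieckTopology (𝔜.X 0)) (Opens.map ((f : FSch.Hom 𝔛 𝔜).app 0).base) p) := by
  haveI := quasiSeparatedSpace_zero hX
  refine ⟨fun {D} => ?_⟩
  refine Groth.L09.CohColim.preservesColimit_Rpush_of_local (Opens.grothendieckTopology (𝔜.X 0))
    (Opens.map ((f : FSch.Hom 𝔛 𝔜).app 0).base) D p fun V => ?_
  refine ⟨{W : (𝔜.X 0).Opens // IsAffineOpen W ∧ W ≤ V}, fun W => W.1, fun W => homOfLE W.2.2, fun x hx => ?_, fun W => ?_⟩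
  · obtain ⟨W, hW, hxW, hWV⟩ := exists_isAffineOpen_mem_and_subset hx
    exact ⟨W, homOfLE hWV, (Sieve.mem_ofArrows_iff _ _ _).2 ⟨⟨W, hW, hWV⟩, 𝟙 _, Subsingleton.elim _ _⟩, hxW⟩
  · haveI := Groth.L09.CohColim.preservesColimitsOfShape_H (X := 𝔛.X 0)
      (U := (f : FSch.Hom 𝔛 𝔜).app 0 ⁻¹ᵁ W.1) (hc W.1 W.2.1)
      ((isQuasiSeparated_univ_iff.2 ‹_›).of_subset (Set.subset_univ _)) Λ p
    exact (inferInstanceAs (PreservesColimit D
      ((Sheaf.cohomologyPresheafFunctor (Opens.grothendieckTopology (𝔛.X 0)) p).flip.obj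
        (op ((f : FSch.Hom 𝔛 𝔜).app 0 ⁻¹ᵁ W.1)))))

include hc in
/-- Direct images of modules commute with filtered colimits. -/
theorem preservesColimitsOfShape_push : PreservesColimitsOfShape Λ (fm hX h𝔜 f).push := by
  let u := Opens.map ((f : FSch.Hom 𝔛 𝔜).app 0).base
  let pA := CohSite.push (Opens.grothendieckTopology (𝔛.X 0)) (Opens.grothendieckTopology (𝔜.X 0)) u
  haveI : PreservesFiniteLimits pA :=
    inferInstanceAs (PreservesFiniteLimits (TopCat.Sheaf.pushforward AddCommGrpCat.{u} ((f : FSch.Hom 𝔛 𝔜).app 0).base))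
  haveI := preservesColimitsOfShape_RpushTop hX f hc Λ 0
  haveI : PreservesColimitsOfShape Λ pA := preservesColimitsOfShape_of_natIso pA.rightDerivedZeroIsoSelf
  haveI : IsGrothendieckAbelian.{u} (FSch.ModF 𝔜 h𝔜) := Groth.L10.shMod_isGrothendieckAbelian _
  haveI : PreservesColimitsOfSize.{u, u} (TF hX.1) := Groth.L15.KFlatSite.preservesColimits_toSheaf _
  haveI : PreservesColimitsOfSize.{u, u} (TF h𝔜) := Groth.L15.KFlatSite.preservesColimits_toSheaf _
  haveI : (TF h𝔜).Faithful := inferInstanceAs (SheafOfModules.toSheaf.{u} _).Faithful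
  haveI : Balanced (FSch.ModF 𝔜 h𝔜) := inferInstance
  haveI : (TF h𝔜).ReflectsIsomorphisms := inferInstance
  haveI : ReflectsColimitsOfShape Λ (TF h𝔜) := reflectsColimitsOfShape_of_reflectsIsomorphisms
  let e : (fm hX h𝔜 f).push ⋙ TF h𝔜 ≅ TF hX.1 ⋙ pA := Iso.refl _
  haveI : PreservesColimitsOfShape Λ ((fm hX h𝔜 f).push ⋙ TF h𝔜) := preservesColimitsOfShape_of_natIso e.symm
  exact preservesColimitsOfShape_of_reflects_of_preserves (fm hX h𝔜 f).push (TF h𝔜)

include hc in
/-- Filtered colimits of injective modules are acyclic. -/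
theorem acColim [HasInjectiveResolutions (FSch.ModF 𝔛 hX.1)] : ColimDer.AcColim (fm hX h𝔜 f).push Λ := by
  intro D c hcl hD q hq
  obtain ⟨m, rfl⟩ : ∃ m, q = m + 1 := ⟨q - 1, by omega⟩
  haveI : PreservesColimitsOfSize.{u, u} (TF hX.1) := Groth.L15.KFlatSite.preservesColimits_toSheaf _
  haveI := quasiSeparatedSpace_zero hX
  refine isZero_Rpush_of_basis (fm hX h𝔜 f) c.pt (𝔜.X 0).isBasis_affineOpens fun W hW x => ?_
  refine hu_colimit_eq_zero (X := 𝔛.X 0) (D := D ⋙ TF hX.1) (hc W hW)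
    ((isQuasiSeparated_univ_iff.2 ‹_›).of_subset (Set.subset_univ _))
    (isColimitOfPreserves (TF hX.1) hcl) (m + 1) (fun j y => ?_) x
  haveI := hD j
  exact (Groth.L17.RpushSect.subsingleton_hu_of_injective (𝔛.Osh hX.1) (D.obj j)
    ((f : FSch.Hom 𝔛 𝔜).app 0 ⁻¹ᵁ W) m).elim _ _

end Groth.L17.IndRpush
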