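import Groth.Agent.L10.RDerCohIn

/-!
# Vanishing above the amplitude for derived functors of bounded cohomological dimension
-/

universe w w' v v' u u'

open CategoryTheory CategoryTheory.Limits CategoryTheory.Pretriangulated DerivedCategory

set_option autoImplicit false
set_option backward.defeqAttrib.useBackward true
set_option backward.isDefEq.respectTransparency false

namespace Groth.L17.IndRpush

open Groth.L10

variable {A : Type u} [Category.{v} A] [Abelian A] [HasDerivedCategory.{w} A] [KInjDerived.EnoughKInjectives A]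
  [HasInjectiveResolutions A] [EnoughInjectives A]
  {B : Type u'} [Category.{v'} B] [Abelian B] [HasDerivedCategory.{w'} B] {F : A ⥤ B} [F.Additive]
  {RF : DerivedCategory A ⥤ DerivedCategory B}
  (α : F.mapHomotopyCategory (ComplexShape.up ℤ) ⋙ Qh ⟶ Qh ⋙ RF)
  [RF.IsRightDerivedFunctor α (HomotopyCategory.quasiIso A (ComplexShape.up ℤ))]

local notation "tt" => DerivedCategory.TStructure.t

omit [EnoughInjectives A] in
theorem isZero_rd {Z : A} (hZ : IsZero Z) {p : ℕ} (hp : 0 < p) : IsZero ((F.rightDerived p).obj Z) := by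
  obtain ⟨q, rfl⟩ : ∃ q, p = q + 1 := ⟨p - 1, by omega⟩
  haveI : Injective Z := hZ.injective
  exact F.isZero_rightDerived_obj_injective_succ q Z

include α in
/-- Bounded objects go to objects bounded by the cohomological dimension. -/
theorem isZero_H_bounded (N : ℕ) (b : ℤ) : ∀ (m : ℕ) (Y : DerivedCategory A) (j : ℤ), Y.IsGE (b + 1 - m) → Y.IsLE b →
    (∀ (a : ℤ) (p : ℕ), N < p → IsZero ((F.rightDerived p).obj ((homologyFunctor A a).obj Y))) → b + N < j →
    IsZero ((homologyFunctor B j).obj (RF.obj Y)) := by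
  intro m
  induction m with
  | zero =>
    intro Y j hY hY' _ _
    have hz : IsZero Y := (tt).isZero Y b (b + 1 - (0 : ℕ)) (by omega)
    obtain ⟨Z, hZ⟩ : ∃ Z : DerivedCategory A, IsZero Z := ⟨Y, hz⟩
    haveI : (DerivedCategory.IsGE Y (j + 1)) :=
      (DerivedCategory.isGE_iff _ _).2 fun i _ => (homologyFunctor A i).map_isZero hz
    haveI := RDerBound.isGE_obj α Y (j + 1)
    exact DerivedCategory.isZero_of_isGE _ (j + 1) j (by omega)
  | succ m ih =>
    intro Y j hY hY' hP hj
    let a := b + 1 - (m + 1 : ℕ)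
    let L := ((tt).truncLT (a + 1)).obj Y
    let R := ((tt).truncGE (a + 1)).obj Y
    have hLle : L.IsLE a := (tt).isLE_truncLT_obj _ _ _ (by omega)
    have hLge : L.IsGE a := by
      rw [DerivedCategory.isGE_iff]
      intro i hi
      have := isIso_H_ι (a + 1) i (by omega) Y
      exact (DerivedCategory.isZero_of_isGE Y a i hi).of_iso (asIso ((homologyFunctor A i).map (((tt).truncLTι (a + 1)).app Y)))
    obtain ⟨e⟩ := exists_iso_single_H L a
    have := isIso_H_ι (a + 1) a (by omega) Y
    let e' : L ≅ (singleFunctor A a).obj ((homologyFunctor A a).obj Y) :=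
      e ≪≫ (singleFunctor A a).mapIso (asIso ((homologyFunctor A a).map (((tt).truncLTι (a + 1)).app Y)))
    obtain ⟨-, h2, -⟩ := RDerBound.single_H α a ((homologyFunctor A a).obj Y) N fun p hp => hP a p hp
    have hL : IsZero ((homologyFunctor B j).obj (RF.obj L)) := by
      haveI := h2
      exact (DerivedCategory.isZero_of_isLE _ (a + N) j (by simp only [a]; omega)).of_iso
        ((homologyFunctor B j).mapIso (RF.mapIso e'))
    have hR : R.IsGE (a + 1) := inferInstance
    have hR' : R.IsLE b := by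
      rw [DerivedCategory.isLE_iff]
      intro i hi
      by_cases h : a + 1 ≤ i
      · have := isIso_H_π (a + 1) i h Y
        exact (DerivedCategory.isZero_of_isLE Y b i hi).of_iso
          (asIso ((homologyFunctor A i).map (((tt).truncGEπ (a + 1)).app Y))).symm
      · exact isZero_H_GE (a + 1) i (by omega) Y
    have hRP : ∀ (c : ℤ) (p : ℕ), N < p → IsZero ((F.rightDerived p).obj ((homologyFunctor A c).obj R)) := by
      intro c p hp
      by_cases h : a + 1 ≤ c
      · have := isIso_H_π (a + 1) c h Y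
        exact (hP c p hp).of_iso ((F.rightDerived p).mapIso
          (asIso ((homologyFunctor A c).map (((tt).truncGEπ (a + 1)).app Y))).symm)
      · exact isZero_rd (isZero_H_GE (a + 1) c (by omega) Y) (by omega)
    obtain ⟨δ, hT⟩ := RDerTri.exists_triangle α _ ((tt).triangleLTGE_distinguished (a + 1) Y)
    have hz := ih R j ((tt).isGE_of_ge R (b + 1 - m) (a + 1) (by simp only [a]; omega)) hR' hRP hj
    exact ShortComplex.Exact.isZero_X₂ (HomologySequence.exact₂ _ hT j) (hL.eq_of_src _ _) (hz.eq_of_tgt _ _)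

include α in
/-- Objects bounded above go to objects bounded above, given stability of truncations. -/
theorem isZero_H_above (N : ℕ) (X : DerivedCategory A)
    (hX : ∀ (a : ℤ) (p : ℕ), N < p → IsZero ((F.rightDerived p).obj ((homologyFunctor A a).obj X)))
    (hiso : ∀ (n : ℕ) (j : ℤ), (N : ℤ) - (n : ℤ) ≤ j →
      IsIso ((homologyFunctor B j).map (RF.map (((tt).truncGEπ (-(n : ℤ))).app X))))
    (b : ℤ) (hb : ∀ i : ℤ, b < i → IsZero ((homologyFunctor A i).obj X)) (j : ℤ) (hj : b + N < j) :
    IsZero ((homologyFunctor B j).obj (RF.obj X)) := by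
  obtain ⟨n, hn, hn'⟩ : ∃ n : ℕ, (N : ℤ) - (n : ℤ) ≤ j ∧ -(n : ℤ) ≤ b :=
    ⟨((N : ℤ) - j).toNat + (-b).toNat, by omega, by omega⟩
  have := hiso n j hn
  refine IsZero.of_iso ?_ (asIso ((homologyFunctor B j).map (RF.map (((tt).truncGEπ (-(n : ℤ))).app X))))
  obtain ⟨m, hm⟩ : ∃ m : ℕ, b + 1 - (m : ℤ) = -(n : ℤ) := ⟨(b + 1 + n).toNat, by omega⟩
  refine isZero_H_bounded α N b m _ j (hm ▸ inferInstance) ?_ (fun a p hp => ?_) hj
  · rw [DerivedCategory.isLE_iff]
    intro i hi
    have := isIso_H_π (-(n : ℤ)) i (by omega) X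
    exact (hb i hi).of_iso (asIso ((homologyFunctor A i).map (((tt).truncGEπ (-(n : ℤ))).app X))).symm
  · by_cases h : -(n : ℤ) ≤ a
    · have := isIso_H_π (-(n : ℤ)) a h X
      exact (hX a p hp).of_iso ((F.rightDerived p).mapIso
        (asIso ((homologyFunctor A a).map (((tt).truncGEπ (-(n : ℤ))).app X))).symm)
    · exact isZero_rd (isZero_H_GE (-(n : ℤ)) a (by omega) X) (by omega)

end Groth.L17.IndRpush
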