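import Groth.Agent.L17.IndRpush.RpushBound
import Groth.Agent.L17.IndRpush.RDerVanish
import Groth.Agent.L10.SheafModGroth
import Mathlib.AlgebraicGeometry.Noetherian
import Mathlib.AlgebraicGeometry.Morphisms.Affine

/-!
# Amplitude of the derived direct image on objects with ind-coherent cohomology
-/

set_option autoImplicit false
set_option linter.style.haveILetI false
set_option linter.unusedSectionVars false
set_option backward.defeqAttrib.useBackward true
set_option backward.isDefEq.respectTransparency false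
set_option backward.isDefEq.respectTransparency.types false

universe u

open CategoryTheory CategoryTheory.Limits AlgebraicGeometry TopologicalSpace Opposite DerivedCategory

attribute [local instance] HasDerivedCategory.standard

noncomputable section

namespace Groth.L17.IndRpush

variable {𝔛 𝔜 : FSch.Sys.{u}} (hX : 𝔛.IsLocNoethFormal) (h𝔜 : 𝔜.IsFormal) (f : 𝔛 ⟶ 𝔜)

include hX in
theorem isCompact_of_compactSpace [CompactSpace (𝔛.X 0)] (U : (𝔛.X 0).Opens) : IsCompact (U : Set (𝔛.X 0)) := by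
  haveI : IsLocallyNoetherian (𝔛.X 0) := hX.2.2 0
  haveI : AlgebraicGeometry.IsNoetherian (𝔛.X 0) := {}
  exact NoetherianSpace.isCompact _

theorem isCompact_preimage_affine [AlgebraicGeometry.IsAffineHom ((f : FSch.Hom 𝔛 𝔜).app 0)]
    (V : (𝔜.X 0).Opens) (hV : IsAffineOpen V) : IsCompact ((f : FSch.Hom 𝔛 𝔜).app 0 ⁻¹ᵁ V : Set (𝔛.X 0)) :=
  IsAffineOpen.isCompact (hV.preimage ((f : FSch.Hom 𝔛 𝔜).app 0))

/-- Affine morphisms have no higher direct images on ind-coherent modules. -/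
theorem bdd_affine [AlgebraicGeometry.IsAffineHom ((f : FSch.Hom 𝔛 𝔜).app 0)]
    [HasInjectiveResolutions (FSch.ModF 𝔛 hX.1)] : Bdd hX h𝔜 f 0 := fun M hM p hp => by
  obtain ⟨m, rfl⟩ : ∃ m, p = m + 1 := ⟨p - 1, by omega⟩
  exact isZero_Rpush_of_basis (fm hX h𝔜 f) M (𝔜.X 0).isBasis_affineOpens fun W hW =>
    acyclicOn_ind hX hM _ (IsAffineOpen.preimage hW ((f : FSch.Hom 𝔛 𝔜).app 0)) m

/-- Vanishing above the amplitude. -/
theorem isZero_H_RpushD [SiteCmp.HasRpushD (fm hX h𝔜 f)] [HasInjectiveResolutions (FSch.ModF 𝔛 hX.1)]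
    (hc : ∀ V : (𝔜.X 0).Opens, IsAffineOpen V → IsCompact ((f : FSch.Hom 𝔛 𝔜).app 0 ⁻¹ᵁ V : Set (𝔛.X 0)))
    (N : ℕ) (hN : Bdd hX h𝔜 f N) (G : DerivedCategory (FSch.ModF 𝔛 hX.1))
    (hG : ∀ i : ℤ, (ObjectProperty.ind.{u} fun 𝔊 : FSch.ModF 𝔛 hX.1 => FSch.IsCohF 𝔛 hX.1 𝔊) (SiteCmp.HMod G i))
    (b : ℤ) (hb : ∀ i : ℤ, b < i → IsZero (SiteCmp.HMod G i)) (j : ℤ) (hj : b + N < j) :
    IsZero (SiteCmp.HMod ((SiteCmp.RpushD (fm hX h𝔜 f)).obj G) j) := by
  obtain ⟨_, _, -⟩ := Groth.L10.ModRDer.insts (𝔛.Osh hX.1)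
  exact isZero_H_above
    ((SiteCmp.pushKh (fm hX h𝔜 f)).totalRightDerivedUnit DerivedCategory.Qh
      (HomotopyCategory.quasiIso (FSch.ModF 𝔛 hX.1) (ComplexShape.up ℤ)))
    N G (fun a p hp => hN _ (hG a) p hp) (fun n i hi => isIso_H_π hX h𝔜 f hc N hN G hG n i hi) b hb j hj

end Groth.L17.IndRpush
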