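import Groth.Agent.L10.DerivedBrown
import Mathlib.Algebra.Homology.DerivedCategory.ExactFunctor
import Mathlib.CategoryTheory.Adjunction.Basic
import Mathlib.Algebra.Homology.ShortComplex.Ab
import Mathlib.Algebra.Group.Shrink

/-!
# Exact coproduct preserving functors out of the derived category of a Grothendieck abelian category

They are left adjoints, whatever the universe of morphisms of the chosen derived category.
-/

set_option autoImplicit false
set_option linter.style.haveILetI false
set_option linter.unusedSectionVars false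
set_option backward.defeqAttrib.useBackward true
set_option backward.isDefEq.respectTransparency false
set_option backward.isDefEq.respectTransparency.types false

universe w w' v u u'

open CategoryTheory CategoryTheory.Limits CategoryTheory.Pretriangulated Opposite

noncomputable section

namespace Groth.L17.IndRpush.BrownTransfer

section Shrink

variable {D : Type u} [Category.{v} D] {D' : Type u'} [Category.{w'} D'] [Preadditive D']
  [LocallySmall.{v} D'] (F : D ⥤ D') (Y : D')

/-- maps into `Y` after `F`, with small values -/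
def shrinkHom : Dᵒᵖ ⥤ AddCommGrpCat.{v} where
  obj X := AddCommGrpCat.of (Shrink.{v} (F.obj X.unop ⟶ Y))
  map {X X'} f := AddCommGrpCat.ofHom
    { toFun := fun x => equivShrink _ (F.map f.unop ≫ (equivShrink _).symm x)
      map_zero' := (equivShrink _).symm.injective (by simp)
      map_add' := fun a b => by simp [Preadditive.comp_add] }
  map_id X := by
    refine AddCommGrpCat.ext fun x => ?_
    simp
  map_comp f g := by
    refine AddCommGrpCat.ext fun x => ?_
    simp

theorem shrinkHom_apply {X X' : Dᵒᵖ} (f : X ⟶ X') (x : Shrink.{v} (F.obj X.unop ⟶ Y)) :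
    (shrinkHom F Y).map f x = equivShrink _ (F.map f.unop ≫ (equivShrink _).symm x) := rfl

theorem shrinkHom_apply' {X X' : Dᵒᵖ} (f : X ⟶ X') (g : F.obj X.unop ⟶ Y) :
    (shrinkHom F Y).map f (equivShrink (F.obj X.unop ⟶ Y) g) = equivShrink _ (F.map f.unop ≫ g) :=
  (shrinkHom_apply F Y f _).trans
    (congrArg (fun m => equivShrink _ (F.map f.unop ≫ m)) ((equivShrink _).symm_apply_apply g))

theorem preservesLimitsOfShape_shrinkHom (κ : Type v) [PreservesColimitsOfShape (Discrete κ) F] :
    PreservesLimitsOfShape (Discrete κ) (shrinkHom F Y) := by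
  haveI : ∀ K : κ → Dᵒᵖ, PreservesLimit (Discrete.functor K) (shrinkHom F Y) := fun K => ⟨fun {c} hc => by
    refine ⟨isLimitOfReflects (forget AddCommGrpCat.{v}) ((Types.isLimit_iff _).2 ?_).some⟩
    let c' : Cofan fun k => (K k).unop := Cofan.mk c.pt.unop fun k => (c.π.app ⟨k⟩).unop
    have hc' : IsColimit c' := Cofan.IsColimit.mk _
      (fun s => (hc.lift (Fan.mk (op s.pt) fun k => (s.inj k).op)).unop)
      (fun s k => Quiver.Hom.op_inj (hc.fac (Fan.mk (op s.pt) fun k => (s.inj k).op) ⟨k⟩))
      fun s m hm => Quiver.Hom.op_inj (hc.uniq (Fan.mk (op s.pt) fun k => (s.inj k).op) m.op fun ⟨k⟩ =>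
        Quiver.Hom.unop_inj (hm k))
    have hF := isColimitCofanMkObjOfIsColimit F _ _ hc'
    intro s hs
    let t : ∀ k, F.obj (K k).unop ⟶ Y := fun k => (equivShrink (F.obj (K k).unop ⟶ Y)).symm (s ⟨k⟩)
    refine ⟨equivShrink _ (Cofan.IsColimit.desc hF t), fun ⟨k⟩ => ?_, fun m hm => ?_⟩
    · refine (shrinkHom_apply' F Y (c.π.app ⟨k⟩) _).trans ?_
      exact (congrArg (equivShrink _) (Cofan.IsColimit.fac hF t k)).trans ((equivShrink _).apply_symm_apply _)
    · refine ((equivShrink _).eq_symm_apply.1 ?_).symm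
      refine Cofan.IsColimit.hom_ext hF _ _ fun k => ?_
      rw [Cofan.IsColimit.fac hF t k]
      refine Eq.trans (congrArg (equivShrink _).symm (hm ⟨k⟩).symm) ?_
      refine (congrArg (equivShrink _).symm (shrinkHom_apply F Y (c.π.app ⟨k⟩) m)).trans ?_
      exact (equivShrink _).symm_apply_apply _⟩
  exact preservesLimitsOfShape_of_discrete _

variable [Preadditive D] [HasZeroObject D] [HasShift D ℤ] [∀ n : ℤ, (shiftFunctor D n).Additive] [Pretriangulated D]
  [HasZeroObject D'] [HasShift D' ℤ] [∀ n : ℤ, (shiftFunctor D' n).Additive] [Pretriangulated D']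
  [F.CommShift ℤ] [F.IsTriangulated]

open CategoryTheory.Pretriangulated.Opposite in
theorem isHomological_shrinkHom : (shrinkHom F Y).IsHomological := by
  let H := F.op ⋙ preadditiveYoneda.obj Y
  haveI : (shrinkHom F Y).PreservesZeroMorphisms := ⟨fun X X' => by
    refine AddCommGrpCat.ext fun x => ?_
    simp [shrinkHom_apply]
    rfl⟩
  refine ⟨fun T hT => (ShortComplex.ab_exact_iff _).2 fun (x : Shrink.{v} (F.obj T.obj₂.unop ⟶ Y)) hx => ?_⟩
  obtain ⟨y, hy⟩ := (ShortComplex.ab_exact_iff _).1 (H.map_distinguished_exact T hT) ((equivShrink (F.obj T.obj₂.unop ⟶ Y)).symm x) (by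
    change F.map T.mor₂.unop ≫ (equivShrink _).symm x = 0
    have h' : equivShrink _ (F.map T.mor₂.unop ≫ (equivShrink _).symm x) = (0 : Shrink.{v} (F.obj T.obj₃.unop ⟶ Y)) := hx
    have := congrArg (equivShrink _).symm h'
    simpa using this)
  refine ⟨equivShrink (F.obj T.obj₁.unop ⟶ Y) y, ?_⟩
  refine (shrinkHom_apply' F Y T.mor₁ y).trans ?_
  exact (equivShrink _).apply_eq_iff_eq_symm_apply.2 hy

end Shrink

/-- coproduct preserving exact functors are left adjoints when Brown representability holds -/
theorem isLeftAdjoint_of_hasBrown {D : Type u} [Category.{v} D] [Preadditive D] [HasZeroObject D] [HasShift D ℤ]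
    [∀ n : ℤ, (shiftFunctor D n).Additive] [Pretriangulated D] (hB : Groth.L10.Brown.HasBrown D)
    {D' : Type u'} [Category.{w'} D'] [Preadditive D'] [HasZeroObject D'] [HasShift D' ℤ]
    [∀ n : ℤ, (shiftFunctor D' n).Additive] [Pretriangulated D'] [LocallySmall.{v} D']
    (F : D ⥤ D') [F.CommShift ℤ] [F.IsTriangulated] [∀ κ : Type v, PreservesColimitsOfShape (Discrete κ) F] :
    F.IsLeftAdjoint := by
  have h : ∀ Y : D', ∃ L : D, Nonempty ((shrinkHom F Y ⋙ forget AddCommGrpCat).RepresentableBy L) := fun Y => by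
    haveI := fun κ : Type v => preservesLimitsOfShape_shrinkHom F Y κ
    haveI := isHomological_shrinkHom F Y
    exact (hB (shrinkHom F Y)).has_representation
  choose L hL using h
  let e : ∀ X Y, (F.obj X ⟶ Y) ≃ (X ⟶ L Y) := fun X Y =>
    (equivShrink (F.obj X ⟶ Y)).trans ((hL Y).some.homEquiv (X := X)).symm
  refine (Adjunction.adjunctionOfEquivRight e fun X' X Y f g => ?_).isLeftAdjoint
  refine ((hL Y).some.homEquiv (X := X')).injective ?_
  rw [(hL Y).some.homEquiv_comp]
  simp only [e, Equiv.trans_apply]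
  exact ((hL Y).some.homEquiv.apply_symm_apply _).trans ((shrinkHom_apply' F Y f.op g).symm.trans
    (congrArg _ ((hL Y).some.homEquiv.apply_symm_apply _).symm))

section One

variable {A : Type u} [Category.{v} A] [Abelian A] [HasDerivedCategory.{w} A]

theorem additive_shift (n : ℤ) : (shiftFunctor (DerivedCategory A) n).Additive := inferInstance

end One

section Compare

variable (A : Type u) [Category.{v} A] [Abelian A]
  (h₁ : HasDerivedCategory.{w} A) (h₂ : HasDerivedCategory.{w'} A)

/-- the comparison between two choices of derived categories -/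
def compare : @DerivedCategory A _ _ h₁ ⥤ @DerivedCategory A _ _ h₂ :=
  @Functor.mapDerivedCategory A _ _ h₁ A _ _ h₂ (𝟭 A) _ _ _

instance : (compare A h₁ h₂).CommShift ℤ :=
  inferInstanceAs ((@Functor.mapDerivedCategory A _ _ h₁ A _ _ h₂ (𝟭 A) _ _ _).CommShift ℤ)

instance [∀ n : ℤ, (shiftFunctor (@DerivedCategory A _ _ h₁) n).Additive]
    [∀ n : ℤ, (shiftFunctor (@DerivedCategory A _ _ h₂) n).Additive] : (compare A h₁ h₂).IsTriangulated :=
  inferInstanceAs ((@Functor.mapDerivedCategory A _ _ h₁ A _ _ h₂ (𝟭 A) _ _ _).IsTriangulated)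

theorem isEquivalence_compare : (compare A h₁ h₂).IsEquivalence := by
  let e : @DerivedCategory.Q A _ _ h₁ ⋙ compare A h₁ h₂ ≅ @DerivedCategory.Q A _ _ h₂ :=
    @Functor.mapDerivedCategoryFactors A _ _ h₁ A _ _ h₂ (𝟭 A) _ _ _ ≪≫ NatIso.ofComponents (fun _ => Iso.refl _) (by
      intro X Y f
      refine (Category.comp_id _).trans ((congrArg _ ?_).trans (Category.id_comp _).symm)
      exact HomologicalComplex.hom_ext _ _ fun i => rfl)
  exact Functor.isEquivalence_of_iso (Localization.isoUniqFunctor (@DerivedCategory.Q A _ _ h₁)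
    (@DerivedCategory.Q A _ _ h₂) (HomologicalComplex.quasiIso A (ComplexShape.up ℤ)) (compare A h₁ h₂) e).symm

end Compare

section Small

variable {A : Type u} [Category.{v} A] [Abelian A] [IsGrothendieckAbelian.{v} A] [HasDerivedCategory.{w} A]

theorem locallySmall : LocallySmall.{v} (DerivedCategory A) :=
  ⟨fun _ _ => small_of_injective (f := (Groth.L10.KInjDerived.equiv (A := A)).inverse.map)
    (Groth.L10.KInjDerived.equiv (A := A)).inverse.map_injective⟩

end Small

section Main

variable {A : Type u} [Category.{v} A] [Abelian A] [IsGrothendieckAbelian.{v} A] [h : HasDerivedCategory.{w} A]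
  {D' : Type u'} [Category.{w'} D'] [Preadditive D'] [HasZeroObject D'] [HasShift D' ℤ]
  [∀ n : ℤ, (shiftFunctor D' n).Additive] [Pretriangulated D'] [LocallySmall.{v} D']

/-- coproduct preserving exact functors out of `D(A)` are left adjoints -/
theorem isLeftAdjoint (F : DerivedCategory A ⥤ D') [F.CommShift ℤ] [F.IsTriangulated]
    [∀ κ : Type v, PreservesColimitsOfShape (Discrete κ) F] : F.IsLeftAdjoint := by
  let hs : HasDerivedCategory.{v} A := Groth.L10.DerivedModGen.smallDerived A
  haveI := fun n => @additive_shift A _ _ hs n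
  haveI := fun n => @additive_shift A _ _ h n
  let G : @DerivedCategory A _ _ hs ⥤ @DerivedCategory A _ _ h := compare A hs h
  haveI : G.IsEquivalence := isEquivalence_compare A hs h
  letI : G.CommShift ℤ := inferInstanceAs ((compare A hs h).CommShift ℤ)
  haveI : G.IsTriangulated := inferInstanceAs ((compare A hs h).IsTriangulated)
  haveI : (G ⋙ F).IsLeftAdjoint :=
    @isLeftAdjoint_of_hasBrown _ _ _ _ _ _ _ (@Groth.L10.DerivedBrown.hasBrown A _ _ _ hs) _ _ _ _ _ _ _ _ (G ⋙ F) _ _ _
  haveI : G.asEquivalence.inverse.IsLeftAdjoint := G.asEquivalence.symm.toAdjunction.isLeftAdjoint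
  haveI : (G.asEquivalence.inverse ⋙ (G ⋙ F)).IsLeftAdjoint := inferInstance
  haveI : (G.asEquivalence.inverse ⋙ G.asEquivalence.functor ⋙ F).IsLeftAdjoint := ‹(G.asEquivalence.inverse ⋙ (G ⋙ F)).IsLeftAdjoint›
  exact Functor.isLeftAdjoint_of_iso ((Functor.associator _ _ _).symm ≪≫
    Functor.isoWhiskerRight G.asEquivalence.counitIso F ≪≫ F.leftUnitor)

end Main

end Groth.L17.IndRpush.BrownTransfer
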