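import Groth.Agent.L17.IndRpush.RpushBound
import Groth.Agent.L10.RDerBound
import Groth.Agent.L17.IndRpush.WeakSerre

/-!
# Maps from the structure sheaf into shifts of objects with ind-coherent cohomology
-/

set_option autoImplicit false
set_option linter.style.haveILetI false
set_option linter.unusedSectionVars false
set_option backward.defeqAttrib.useBackward true
set_option backward.isDefEq.respectTransparency false
set_option backward.isDefEq.respectTransparency.types false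

universe t w v u₁ u

open CategoryTheory CategoryTheory.Limits AlgebraicGeometry TopologicalSpace Opposite DerivedCategory

noncomputable section

namespace Groth.L17.IndRpush

open Groth.L10

section Generic

variable {C : Type u₁} [Category.{v} C] [Abelian C] [HasDerivedCategory.{w} C] [KInjDerived.EnoughKInjectives C]

local notation "tt" => DerivedCategory.TStructure.t
local notation "S0" => singleFunctor C 0

/-- Test objects of bounded dimension do not map into high shifts of objects bounded above. -/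
theorem hom_eq_zero_above {ι : Type t} {𝒞 : LocalDetect.Cover C ι} {X : DerivedCategory C}
    (h : TowerStab.LocBounded 𝒞 X) [HasProductsOfShape ℕ C] {Q : C} {d : ℕ}
    (hQ : ∀ p, TowerStab.Small d Q ((homologyFunctor C p).obj X)) (b : ℤ)
    (hb : ∀ i : ℤ, b < i → IsZero ((homologyFunctor C i).obj X)) (i : ℤ) (hi : b + d < i)
    (g : (S0).obj Q ⟶ X⟦i⟧) : g = 0 := by
  haveI := Groth.L10.DerivedProd.hasProductsOfShape (A := C) (ι := ℕ)
  have key : ∀ x : ((S0).obj Q)⟦(-i)⟧ ⟶ X, x = 0 := fun x => by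
    obtain ⟨N, hN, hN'⟩ : ∃ N : ℕ, -(N : ℤ) ≤ b + 1 ∧ (d : ℤ) + (-i + 1) < N :=
      ⟨(-b).toNat + ((d : ℤ) - i + 2).toNat, by omega, by omega⟩
    have hbij := TowerStab.bijective_rlim (TowerStab.isRlimVia_truncGE h) (((S0).obj Q)⟦(-i)⟧) N
      (fun n hn => TowerStab.bijective_tr X hQ (-i) n (by omega)) fun n hn y => by
        let e := (shiftFunctorAdd' (DerivedCategory C) (-i) 1 (-i + 1) rfl).app ((S0).obj Q)
        obtain ⟨z, hz⟩ := (TowerStab.bijective_tr X hQ (-i + 1) n (by omega)).2 (e.hom ≫ y)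
        exact ⟨e.inv ≫ z,
          (Category.assoc _ _ _).trans ((congrArg (e.inv ≫ ·) hz).trans (Iso.inv_hom_id_assoc _ _))⟩
    refine hbij.1 (Eq.trans ?_ (zero_comp).symm)
    obtain ⟨m, hm⟩ : ∃ m : ℕ, -(N : ℤ) + m - 1 = b := ⟨(b + 1 + N).toNat, by omega⟩
    refine RDerBound.hom_bounded_eq_zero (d := d) (-i) (-(N : ℤ)) m _ inferInstance ?_ (fun p => ?_) (by omega) _
    · rw [DerivedCategory.isLE_iff]
      intro p hp
      have := Groth.L10.isIso_H_π (-(N : ℤ)) p (by omega) X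
      exact (hb p (by omega)).of_iso
        (asIso ((homologyFunctor C p).map (((tt).truncGEπ (-(N : ℤ))).app X))).symm
    · intro m' hm' u
      by_cases hp : -(N : ℤ) ≤ p
      · have := Groth.L10.isIso_H_π (-(N : ℤ)) p hp X
        let s := (shiftFunctor (DerivedCategory C) m').mapIso ((S0).mapIso
          (asIso ((homologyFunctor C p).map (((tt).truncGEπ (-(N : ℤ))).app X))))
        exact (cancel_mono s.inv).1 ((hQ p m' hm' (u ≫ s.inv)).trans zero_comp.symm)
      · exact ((shiftFunctor (DerivedCategory C) m').map_isZero ((S0).map_isZero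
          (isZero_H_GE (-(N : ℤ)) p (by omega) X))).eq_of_tgt _ _
  refine (shiftFunctor (DerivedCategory C) (-i)).map_injective ?_
  rw [Functor.map_zero, ← cancel_mono ((shiftEquiv (DerivedCategory C) i).unitIso.symm.app X).hom, zero_comp]
  exact key _

end Generic

section Unit

variable {X : TopCat.{u}} (O : Sheaf (Opens.grothendieckTopology X) CommRingCat.{u})

/-- The section over any open coming from a global one. -/
def glob (M : ModSite.Mod O) (s : M.val.obj (op (⊤ : Opens X))) : M.sections :=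
  PresheafOfModules.sectionsMk (M := M.val) (fun W => M.val.map (homOfLE le_top).op s) fun W V g => by
    exact (Groth.L17.FSheaf.res_res (R := ModSite.ringSh O) M le_top (leOfHom g.unop) s :)

/-- The free module on the whole space is the structure sheaf. -/
theorem nonempty_free_top : Nonempty (SiteCover.P O (⊤ : Opens X) ≅ ModSite.unit O) := by
  let one : (ModSite.toAb (ModSite.unit O)).obj.obj (op (⊤ : Opens X)) :=
    (1 : (ModSite.ringSh O).obj.obj (op (⊤ : Opens X)))
  let a : SiteCover.P O (⊤ : Opens X) ⟶ ModSite.unit O := (SiteCover.sec O ⊤ _).symm one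
  let s₀ : (SiteCover.P O (⊤ : Opens X)).val.obj (op (⊤ : Opens X)) := SiteCover.sec O ⊤ _ (𝟙 _)
  let b : ModSite.unit O ⟶ SiteCover.P O (⊤ : Opens X) := (SheafOfModules.unitHomEquiv _).symm (glob O _ s₀)
  have ha : (a.val.app (op ⊤)).hom s₀ = one := by
    have h := SiteCover.sec_comp O (⊤ : Opens X) (𝟙 (SiteCover.P O (⊤ : Opens X))) a
    rw [Category.id_comp] at h
    exact h.symm.trans ((SiteCover.sec O ⊤ _).apply_symm_apply one)
  have hb : (b.val.app (op ⊤)).hom (1 : (ModSite.ringSh O).obj.obj (op (⊤ : Opens X))) = s₀ := by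
    refine ((SheafOfModules.unitHomEquiv_apply_coe _ b (op ⊤)).symm.trans ?_).trans
      (Groth.L17.FSheaf.res_self (R := ModSite.ringSh O) (SiteCover.P O (⊤ : Opens X)) le_top s₀)
    exact congrArg (fun t : (SiteCover.P O (⊤ : Opens X)).sections => t.val (op ⊤))
      ((SheafOfModules.unitHomEquiv _).apply_symm_apply (glob O _ s₀))
  refine ⟨⟨a, b, ?_, ?_⟩⟩
  · apply (SiteCover.sec O ⊤ _).injective
    refine (SiteCover.sec_comp O _ a b).trans ?_
    rw [(SiteCover.sec O ⊤ _).apply_symm_apply one]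
    exact hb
  · apply (SheafOfModules.unitHomEquiv _).injective
    refine Subtype.ext (funext fun W => ?_)
    refine (SheafOfModules.unitHomEquiv_apply_coe _ (b ≫ a) W).trans ?_
    refine Eq.trans ?_ (SheafOfModules.unitHomEquiv_apply_coe _ (𝟙 _) W).symm
    show (a.val.app W).hom ((b.val.app W).hom (1 : (ModSite.ringSh O).obj.obj W)) = (1 : (ModSite.ringSh O).obj.obj W)
    have hbW : (b.val.app W).hom (1 : (ModSite.ringSh O).obj.obj W) =
        (SiteCover.P O (⊤ : Opens X)).val.map (homOfLE le_top).op s₀ := by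
      refine (SheafOfModules.unitHomEquiv_apply_coe _ b W).symm.trans ?_
      exact congrArg (fun t : (SiteCover.P O (⊤ : Opens X)).sections => t.val W)
        ((SheafOfModules.unitHomEquiv _).apply_symm_apply (glob O _ s₀))
    rw [hbW]
    refine (PresheafOfModules.naturality_apply a.val _ s₀).trans ?_
    refine (congrArg (fun t => ((ModSite.unit O).val.map (homOfLE le_top).op).hom t) ha).trans ?_
    exact map_one ((ModSite.ringSh O).obj.map (homOfLE le_top).op).hom

end Unit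

open Groth.L17.FSheaf Groth.L17.FSheaf.GrQuot

attribute [local instance] HasDerivedCategory.standard

variable {𝔛 : FSch.Sys.{u}} (hX : 𝔛.IsLocNoethFormal)

/-- A uniform bound on maps from the structure sheaf. -/
theorem exists_bound_hom_unit [CompactSpace (𝔛.X 0)] :
    ∃ e : ℕ, ∀ (G : DerivedCategory (FSch.ModF 𝔛 hX.1)), (∀ i : ℤ, ind hX (SiteCmp.HMod G i)) →
      ∀ i₀ : ℤ, (∀ i : ℤ, i₀ ≤ i → IsZero (SiteCmp.HMod G i)) → ∀ i : ℤ, i₀ + e ≤ i →
        Subsingleton (SiteCmp.inD (𝔛.Osh hX.1) (FSch.unitF 𝔛 hX.1) ⟶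
          (shiftFunctor (DerivedCategory (FSch.ModF 𝔛 hX.1)) i).obj G) := by
  obtain ⟨_, _, _⟩ := Groth.L10.ModRDer.insts (𝔛.Osh hX.1)
  haveI : IsGrothendieckAbelian.{u} (FSch.ModF 𝔛 hX.1) := Groth.L10.shMod_isGrothendieckAbelian _
  obtain ⟨d, hd⟩ := exists_bound_ind hX (U := (⊤ : (𝔛.X 0).Opens))
    (by simpa using isCompact_univ)
  refine ⟨d, fun G hG i₀ h₀ i hi => subsingleton_of_forall_eq 0 fun g => ?_⟩
  have hcov : ∀ (V : (𝔛.X 0).affineOpens) (T : Sieve V.1), T ∈ Opens.grothendieckTopology (𝔛.X 0) V.1 →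
      ∃ (ι : Type u) (Y : ι → (𝔛.X 0).Opens) (k : ∀ i, Y i ⟶ V.1), (∀ i, T.arrows (k i)) ∧
        Sieve.ofArrows Y k ∈ Opens.grothendieckTopology (𝔛.X 0) V.1 ∧ ∀ i, Y i ∈ (𝔛.X 0).affineOpens := fun V T hT => by
    refine ⟨{W : (𝔛.X 0).Opens // IsAffineOpen W ∧ ∃ h : W ⟶ V.1, T.arrows h}, Subtype.val, fun W => W.2.2.choose,
      fun W => W.2.2.choose_spec, fun x hx => ?_, fun W => W.2.1⟩
    obtain ⟨W', h, hT', hxW⟩ := hT x hx
    obtain ⟨W, hW, hxW', hWW'⟩ := exists_isAffineOpen_mem_and_subset hxW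
    let k : W ⟶ W' := homOfLE hWW'
    exact ⟨W, k ≫ h, (Sieve.mem_ofArrows_iff _ _ _).2
      ⟨⟨W, hW, ⟨k ≫ h, T.downward_closed hT' k⟩⟩, 𝟙 _, Subsingleton.elim _ _⟩, hxW'⟩
  let 𝒞 := SiteCover.cover (𝔛.Osh hX.1) (𝔛.X 0).affineOpens (fun U => by
    refine ⟨{W : (𝔛.X 0).Opens // IsAffineOpen W ∧ W ≤ U}, fun W => W.1, fun W => homOfLE W.2.2, fun x hx => ?_,
      fun W => W.2.1⟩
    obtain ⟨W, hW, hxW, hWU⟩ := exists_isAffineOpen_mem_and_subset hx
    exact ⟨W, homOfLE hWU, (Sieve.mem_ofArrows_iff _ _ _).2 ⟨⟨W, hW, hWU⟩, 𝟙 _, Subsingleton.elim _ _⟩, hxW⟩)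
    (fun _ => (𝔛.X 0).affineOpens) hcov
  have hloc : TowerStab.LocBounded 𝒞 G := fun V => by
    refine ⟨0, ?_⟩
    rintro _ ⟨W, hW, rfl⟩ p
    refine SiteCover.small_of_HU (𝔛.Osh hX.1) W _ 0 fun k hk => ?_
    obtain ⟨m, rfl⟩ : ∃ m, k = m + 1 := ⟨k - 1, by omega⟩
    exact subsingleton_of_forall_eq 0 (acyclicOn_ind hX (hG p) W hW m)
  have hsm : ∀ p, TowerStab.Small d (SiteCover.P (𝔛.Osh hX.1) (⊤ : (𝔛.X 0).Opens))
      ((homologyFunctor (FSch.ModF 𝔛 hX.1) p).obj G) := fun p =>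
    SiteCover.small_of_HU (𝔛.Osh hX.1) _ _ d fun k hk =>
      subsingleton_of_forall_eq 0 (hd ⊤ le_rfl (fun A hA _ => by rwa [top_inf_eq]) _ (hG p) k hk.le)
  obtain ⟨e₀⟩ := nonempty_free_top (X := (𝔛.X 0).toTopCat) (𝔛.Osh hX.1)
  let s := (singleFunctor (FSch.ModF 𝔛 hX.1) 0).mapIso e₀
  exact (cancel_epi s.hom).1 ((hom_eq_zero_above hloc hsm (i₀ - 1) (fun j hj => h₀ j (by omega)) i (by omega)
    (s.hom ≫ g)).trans comp_zero.symm)

end Groth.L17.IndRpush
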