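import Groth.Agent.L17.IndRpush.IndBrown
import Groth.Agent.L28.FTors.Main
import Groth.Prelude.Def_FTors2

/-!
# The derived direct image on complexes with quasi-coherent torsion cohomology has a right adjoint
-/

set_option autoImplicit false
set_option linter.style.haveILetI false
set_option linter.unusedSectionVars false
set_option backward.defeqAttrib.useBackward true
set_option backward.isDefEq.respectTransparency false
set_option backward.isDefEq.respectTransparency.types false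

universe u

open CategoryTheory CategoryTheory.Limits

attribute [local instance] HasDerivedCategory.standard

noncomputable section

namespace Groth.L17.IndRpush.QctBrown

open Groth.L09.IndCoh Groth.L28.QCT

variable {𝔛 𝔜 : FSch.Sys.{u}} (hX : 𝔛.IsLocNoethFormal) (h𝔜 : 𝔜.IsFormal) (f : 𝔛 ⟶ 𝔜)
  [(_root_.FTors.IsQCT 𝔛 hX.1).ContainsZero] [(_root_.FTors.IsQCT 𝔛 hX.1).IsClosedUnderKernels]
  [(_root_.FTors.IsQCT 𝔛 hX.1).IsClosedUnderCokernels] [(_root_.FTors.IsQCT 𝔛 hX.1).IsClosedUnderFiniteProducts]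
  [PreservesFiniteLimits (_root_.FTors.IsQCT 𝔛 hX.1).ι] [PreservesFiniteColimits (_root_.FTors.IsQCT 𝔛 hX.1).ι]

theorem isGrothendieckAbelian : IsGrothendieckAbelian.{u} (_root_.FTors.IsQCT 𝔛 hX.1).FullSubcategory := by
  haveI : IsGrothendieckAbelian.{u} (FSch.ModF 𝔛 hX.1) := Groth.L10.shMod_isGrothendieckAbelian _
  haveI : ∀ (J : Type u) [SmallCategory J], (_root_.FTors.IsQCT 𝔛 hX.1).IsClosedUnderColimitsOfShape J :=
    fun J _ => ⟨fun _M ⟨c⟩ => isQCT_colim hX c.isColimit c.prop_diag_obj⟩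
  haveI : HasColimitsOfSize.{u, u} (_root_.FTors.IsQCT 𝔛 hX.1).FullSubcategory := ⟨fun J _ => inferInstance⟩
  haveI := isLeftAdjoint_qctι hX
  haveI : AB5OfSize.{u, u} (_root_.FTors.IsQCT 𝔛 hX.1).FullSubcategory :=
    Groth.L00.Comonadic.ab5 (_root_.FTors.IsQCT 𝔛 hX.1).ι _ (Adjunction.ofIsLeftAdjoint (_root_.FTors.IsQCT 𝔛 hX.1).ι)
  haveI : HasSeparator (_root_.FTors.IsQCT 𝔛 hX.1).FullSubcategory := by
    obtain ⟨κ, F, hF, hrep⟩ := exists_coh_family hX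
    let t : {k : κ // _root_.FTors.IsQCT 𝔛 hX.1 (F k)} → (_root_.FTors.IsQCT 𝔛 hX.1).FullSubcategory :=
      fun k => ⟨F k.1, k.2⟩
    refine ⟨⟨∐ t, (isSeparator_sigma t).2 ?_⟩⟩
    intro M N f g hfg
    obtain ⟨Λ, _, _, pres, hcohp, hmono⟩ := exists_mono_pres hX (good_of_isQCT hX M.property)
    apply (_root_.FTors.IsQCT 𝔛 hX.1).ι.map_injective
    refine pres.isColimit.hom_ext fun j => ?_
    have hP : _root_.FTors.IsQCT 𝔛 hX.1 (pres.diag.obj j) :=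
      isQCT_of_good hX (haveI := hmono j; isTorsF_of_mono hX (pres.ι.app j) M.property.1) (good_coh hX (hcohp j))
    obtain ⟨k, ⟨e⟩⟩ := hrep _ (hcohp j)
    have hk : _root_.FTors.IsQCT 𝔛 hX.1 (F k) :=
      isQCT_of_good hX (isTorsF_of_mono hX e.inv hP.1) (good_coh hX (hF k))
    rw [← cancel_epi e.inv]
    have h := hfg (t ⟨k, hk⟩) (ObjectProperty.ofObj_apply t ⟨k, hk⟩) (ObjectProperty.homMk (e.inv ≫ pres.ι.app j))
    exact (Category.assoc _ _ _).symm.trans ((congrArg (fun m => m.hom) h).trans (Category.assoc _ _ _))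
  exact { }

variable [CompactSpace (𝔛.X 0)] [CompactSpace (𝔜.X 0)] [SiteCmp.HasRpushD (FSch.homMor f hX.1 h𝔜)]

theorem isLeftAdjoint_mapDerived_RpushD :
    ((_root_.FTors.IsQCT 𝔛 hX.1).ι.mapDerivedCategory ⋙ SiteCmp.RpushD (FSch.homMor f hX.1 h𝔜)).IsLeftAdjoint := by
  haveI : IsGrothendieckAbelian.{u} (FSch.ModF 𝔛 hX.1) := Groth.L10.shMod_isGrothendieckAbelian _
  haveI : IsGrothendieckAbelian.{u} (FSch.ModF 𝔜 h𝔜) := Groth.L10.shMod_isGrothendieckAbelian _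
  haveI := isGrothendieckAbelian hX
  haveI := isLeftAdjoint_qctι hX
  exact IndBrown.isLeftAdjoint_comp (_root_.FTors.IsQCT 𝔛 hX.1).ι (FSch.homMor f hX.1 h𝔜).push _
    ((SiteCmp.pushKh (FSch.homMor f hX.1 h𝔜)).totalRightDerivedUnit DerivedCategory.Qh
      (HomotopyCategory.quasiIso (FSch.ModF 𝔛 hX.1) (ComplexShape.up ℤ)))
    fun κ E hE => preservesColimit_RpushD hX h𝔜 f κ E fun k i => by
      obtain ⟨M, ⟨e⟩⟩ := hE k i
      exact (indP hX).prop_of_iso e ((ind_iff_good hX).2 (good_of_isQCT hX M.property))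

theorem isLeftAdjoint_ι_RpushD
    (hj : (_root_.FTors.IsQCT 𝔛 hX.1).ι.mapDerivedCategory.Full ∧ (_root_.FTors.IsQCT 𝔛 hX.1).ι.mapDerivedCategory.Faithful ∧
      ∀ G : DerivedCategory (FSch.ModF 𝔛 hX.1),
        (_root_.FTors.IsQCT 𝔛 hX.1).ι.mapDerivedCategory.essImage G ↔ _root_.FTors.IsDQCT 𝔛 hX.1 G) :
    ((_root_.FTors.IsDQCT 𝔛 hX.1).ι ⋙ SiteCmp.RpushD (FSch.homMor f hX.1 h𝔜)).IsLeftAdjoint := by
  obtain ⟨_, _, hess⟩ := hj
  let J := (_root_.FTors.IsQCT 𝔛 hX.1).ι.mapDerivedCategory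
  let J' := (_root_.FTors.IsDQCT 𝔛 hX.1).lift J fun K => (hess _).1 ⟨K, ⟨Iso.refl _⟩⟩
  haveI : J'.EssSurj := ⟨fun G => by
    obtain ⟨K, ⟨e⟩⟩ := (hess G.obj).2 G.property
    exact ⟨K, ⟨(_root_.FTors.IsDQCT 𝔛 hX.1).isoMk e⟩⟩⟩
  haveI : J'.Full := ⟨fun {K L} g => by
    obtain ⟨k, hk⟩ := J.map_surjective g.hom
    exact ⟨k, ObjectProperty.hom_ext _ hk⟩⟩
  haveI : J'.Faithful := ⟨fun {K L} a b h => J.map_injective (congrArg (fun m => m.hom) h)⟩
  haveI : J'.IsEquivalence := {}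
  haveI : J'.asEquivalence.inverse.IsLeftAdjoint := J'.asEquivalence.symm.toAdjunction.isLeftAdjoint
  haveI : (J ⋙ SiteCmp.RpushD (FSch.homMor f hX.1 h𝔜)).IsLeftAdjoint := isLeftAdjoint_mapDerived_RpushD hX h𝔜 f
  haveI : (J'.asEquivalence.inverse ⋙ (J ⋙ SiteCmp.RpushD (FSch.homMor f hX.1 h𝔜))).IsLeftAdjoint := inferInstance
  exact Functor.isLeftAdjoint_of_iso
    (F := J'.asEquivalence.inverse ⋙ (J ⋙ SiteCmp.RpushD (FSch.homMor f hX.1 h𝔜))) ((Functor.associator _ _ _).symm ≪≫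
    Functor.isoWhiskerRight ((Functor.associator _ _ _).symm ≪≫
      Functor.isoWhiskerRight J'.asEquivalence.counitIso (_root_.FTors.IsDQCT 𝔛 hX.1).ι ≪≫
      Functor.leftUnitor _) _)

end Groth.L17.IndRpush.QctBrown
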